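import Cfsg.Agent.Lib.J2Type.KleinFive
import Cfsg.Agent.Lib.J2Type.Local2
import Cfsg.Agent.Lib.J2Type.ElemSylow

/-!
Centralisers of involutions in a group without core with a fused Klein Sylow 2-subgroup.
-/

set_option autoImplicit false
set_option linter.style.haveILetI false
set_option linter.unusedSectionVars false
set_option maxHeartbeats 800000

namespace Cfsg.Agent.J2Type.KleinCent

open Subgroup
open Cfsg.Agent.TwoPointA5

universe u

section Gen

variable {Y : Type u} [Group Y] [Finite Y]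

/-- An element of an odd subgroup is a product of a fixed and an inverted element. -/
theorem exists_fixed_inverted {D : Subgroup Y} (hD : Odd (Nat.card D)) {s g : Y} (hs : s * s = 1)
    (hsD : ∀ d ∈ D, s * d * s⁻¹ ∈ D) (hg : g ∈ D) :
    ∃ f ∈ D, ∃ i ∈ D, f * i = g ∧ s * f * s⁻¹ = f ∧ s * i * s⁻¹ = i⁻¹ := by
  have hsi : s⁻¹ = s := inv_eq_of_mul_eq_one_right hs
  set h := g⁻¹ * (s * g * s⁻¹) with hh
  have hh' : s * h * s⁻¹ = h⁻¹ := by
    rw [hh, hsi]
    calc s * (g⁻¹ * (s * g * s)) * s = s * g⁻¹ * s * g * (s * s) := by group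
      _ = (g⁻¹ * (s * g * s))⁻¹ := by
        rw [hs, mul_one, mul_inv_rev, mul_inv_rev, mul_inv_rev, inv_inv, hsi]; group
  have hhD : h ∈ D := D.mul_mem (D.inv_mem hg) (hsD g hg)
  obtain ⟨j, hj⟩ := Loc.mem_zpowers_sq (Loc.odd_orderOf hD hhD)
  have hj' : (h * h) ^ j = h := hj
  set k := h ^ j
  have hkk : k * k = h := by
    rw [← zpow_add]
    rw [← pow_two, ← zpow_natCast h 2, ← zpow_mul] at hj'
    rw [show j + j = ((2 : ℕ) : ℤ) * j by push_cast; ring]
    exact hj'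
  have hkD : k ∈ D := D.zpow_mem hhD j
  have hk : s * k * s⁻¹ = k⁻¹ := by
    show (MulAut.conj s) (h ^ j) = (h ^ j)⁻¹
    rw [map_zpow, MulAut.conj_apply, hh', inv_zpow]
  refine ⟨g * k, D.mul_mem hg hkD, k⁻¹, D.inv_mem hkD, mul_inv_cancel_right _ _, ?_, ?_⟩
  · have hsg : s * g * s⁻¹ = g * (k * k) := by rw [hkk, hh, mul_inv_cancel_left]
    calc s * (g * k) * s⁻¹ = s * g * s⁻¹ * (s * k * s⁻¹) := by group
      _ = g * k := by rw [hsg, hk]; group
  · rw [show s * k⁻¹ * s⁻¹ = (s * k * s⁻¹)⁻¹ by group, hk]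

/-- Elements inverted by the same element commute when their product is inverted as well. -/
theorem comm_of_inverted {s a b : Y} (ha : s * a * s⁻¹ = a⁻¹) (hb : s * b * s⁻¹ = b⁻¹)
    (hab : s * (a * b) * s⁻¹ = (a * b)⁻¹) : a * b = b * a := by
  rw [show s * (a * b) * s⁻¹ = s * a * s⁻¹ * (s * b * s⁻¹) by group, ha, hb, ← mul_inv_rev, inv_inj] at hab
  exact hab.symm

variable (T : Sylow 2 Y) (hT4 : Nat.card (T : Subgroup Y) = 4) (hsq : ∀ x ∈ (T : Subgroup Y), x * x = 1)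

include hT4 hsq in
theorem four_cases {t s w : Y} (ht : t ∈ (T : Subgroup Y)) (ht1 : t ≠ 1) (hs : s ∈ (T : Subgroup Y)) (hs1 : s ≠ 1)
    (hst : s ≠ t) (hw : w ∈ (T : Subgroup Y)) : w = 1 ∨ w = t ∨ w = s ∨ w = s * t := by
  classical
  have hp : s * t ≠ 1 ∧ s * t ≠ t ∧ s * t ≠ s := ⟨fun e => hst (by
      rw [← mul_one s, ← hsq t ht, ← mul_assoc, e, one_mul]),
    fun e => hs1 (mul_eq_right.1 e), fun e => ht1 (mul_eq_left.1 e)⟩
  have hsub : ({1, t, s, s * t} : Set Y) ⊆ ((T : Subgroup Y) : Set Y) := by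
    simp only [Set.insert_subset_iff, Set.singleton_subset_iff, SetLike.mem_coe]
    exact ⟨one_mem _, ht, hs, mul_mem hs ht⟩
  have heq := Set.eq_of_subset_of_ncard_le hsub (by
    rw [← Nat.card_coe_set_eq, Set.ncard_insert_of_notMem, Set.ncard_insert_of_notMem, Set.ncard_pair]
    · exact hT4.le
    · exact fun e => hp.2.2 e.symm
    · simp only [Set.mem_insert_iff, Set.mem_singleton_iff, not_or]
      exact ⟨Ne.symm hst, Ne.symm hp.2.1⟩
    · simp only [Set.mem_insert_iff, Set.mem_singleton_iff, not_or]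
      exact ⟨Ne.symm ht1, Ne.symm hs1, Ne.symm hp.1⟩)
  have : w ∈ ({1, t, s, s * t} : Set Y) := heq ▸ hw
  simpa using this

include hT4 hsq in
/-- An element of odd order of the normalizer fixing an involution of the four-group centralizes it. -/
theorem odd_fix {g t : Y} (hg : g ∈ normalizer ((T : Subgroup Y) : Set Y)) (ho : Odd (orderOf g))
    (ht : t ∈ (T : Subgroup Y)) (ht1 : t ≠ 1) (hgt : g * t = t * g) :
    ∀ x ∈ (T : Subgroup Y), g * x = x * g := by
  intro x hx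
  by_cases hx1 : x = 1
  · simp [hx1]
  by_cases hxt : x = t
  · rw [hxt]; exact hgt
  have hw := (mem_normalizer_iff.1 hg x).1 hx
  rcases four_cases T hT4 hsq ht ht1 hx hx1 hxt hw with h | h | h | h
  · exact absurd (conj_eq_one_iff.1 h) hx1
  · refine absurd (mul_left_cancel (mul_right_cancel (h.trans ?_))) hxt
    rw [hgt, mul_inv_cancel_right]
  · exact mul_inv_eq_iff_eq_mul.1 h
  · refine Loc.fix_of_sq ho (mul_inv_eq_iff_eq_mul.1 ?_)
    calc g * g * x * (g * g)⁻¹ = g * (g * x * g⁻¹) * g⁻¹ := by group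
      _ = g * (x * t) * g⁻¹ := by rw [h]
      _ = g * x * g⁻¹ * (g * t * g⁻¹) := by group
      _ = x * t * t := by rw [h, hgt, mul_inv_cancel_right]
      _ = x := by rw [mul_assoc, hsq t ht, mul_one]

include hT4 hsq in
/-- The centralizer of an involution has a normal 2-complement. -/
theorem odd_mem_core {t g : Y} (ht : t ∈ (T : Subgroup Y)) (ht1 : t ≠ 1) (hg : g * t = t * g)
    (hgo : Odd (orderOf g)) : g ∈ Loc.core t := by
  haveI : Fact (Nat.Prime 2) := ⟨Nat.prime_two⟩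
  set C := centralizer ({t} : Set Y)
  have hTC : (T : Subgroup Y) ≤ C := fun s hs =>
    mem_centralizer_singleton_iff.2 (GWFacts.comm_four T hT4 hsq hs ht).eq
  obtain ⟨P, hP⟩ : ∃ P : Sylow 2 C, (P : Subgroup C) = (T : Subgroup Y).subgroupOf C :=
    ⟨T.subtype hTC, rfl⟩
  have hc := Transfer.NormalPComplement.hasNormalPComplement_of_normalizer_le_centralizer P fun n hn => by
    refine mem_centralizer_iff.2 fun p hp => Subtype.ext (Eq.symm ?_)
    have hpT : (p : Y) ∈ (T : Subgroup Y) := mem_subgroupOf.1 (hP.le hp)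
    have hnT : (n : Y) ∈ normalizer ((T : Subgroup Y) : Set Y) := by
      refine mem_normalizer_iff.2 fun s => ?_
      have h1 := mem_normalizer_iff.1 hn
      constructor
      · intro hs
        exact mem_subgroupOf.1 (hP.le ((h1 ⟨s, hTC hs⟩).1 (hP.ge (mem_subgroupOf.2 hs))))
      · intro hs
        have hsC : s ∈ C := by
          have := mul_mem (mul_mem (inv_mem n.2) (hTC hs)) n.2
          rwa [show (n : Y)⁻¹ * ((n : Y) * s * (n : Y)⁻¹) * n = s by group] at this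
        exact mem_subgroupOf.1 (hP.le ((h1 ⟨s, hsC⟩).2 (hP.ge (mem_subgroupOf.2 hs))))
    show (n : Y) * p = p * n
    obtain ⟨a, b, ha, hb, hab, ⟨i, hi⟩, hbo⟩ := Loc.exists_parts (n : Y)
    have hzN : zpowers (n : Y) ≤ normalizer ((T : Subgroup Y) : Set Y) := zpowers_le.2 hnT
    have hzC : zpowers (n : Y) ≤ C := zpowers_le.2 n.2
    have haT : a ∈ (T : Subgroup Y) := by
      have h2 : IsPGroup 2 ((T : Subgroup Y) ⊔ zpowers a : Subgroup Y) :=
        IsPGroup.to_sup_of_normal_left' T.isPGroup' (Loc.isPGroup_zpowers hi) (zpowers_le.2 (hzN ha))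
      exact T.3 h2 le_sup_left ▸ mem_sup_right (mem_zpowers a)
    have hb' := odd_fix T hT4 hsq (hzN hb) hbo ht ht1 (mem_centralizer_singleton_iff.1 (hzC hb)) p hpT
    rw [← hab, mul_assoc, hb', ← mul_assoc, (GWFacts.comm_four T hT4 hsq haT hpT).eq, mul_assoc]
  exact ⟨⟨g, mem_centralizer_singleton_iff.2 hg⟩,
    Loc.mem_oddCore_of_complement hc (by rwa [← Subgroup.orderOf_coe]), rfl⟩

include hT4 hsq in
theorem centralizer_le {t : Y} (ht : t ∈ (T : Subgroup Y)) (ht1 : t ≠ 1) :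
    centralizer ({t} : Set Y) ≤ (T : Subgroup Y) ⊔ Loc.core t := by
  refine Loc.centralizer_le_sup (T : Subgroup Y) T.isPGroup' (fun s hs =>
      mem_centralizer_singleton_iff.2 (GWFacts.comm_four T hT4 hsq hs ht).eq)
    (fun g hg ho => odd_mem_core T hT4 hsq ht ht1 hg ho) fun P hP _ => ?_
  haveI : Fact (Nat.Prime 2) := ⟨Nat.prime_two⟩
  obtain ⟨Q, hQ⟩ := hP.exists_le_sylow
  calc Nat.card P ≤ Nat.card (Q : Subgroup Y) := card_le_of_le hQ
    _ = Nat.card (T : Subgroup Y) := by rw [Q.card_eq_multiplicity, T.card_eq_multiplicity]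

variable (hsc : ∀ g : Y, Odd (orderOf g) → (∀ x ∈ (T : Subgroup Y), g * x = x * g) → g = 1)

include hT4 hsq hsc in
/-- The core of the centralizer of an involution is inverted by the other involutions. -/
theorem core_inverted {t s g : Y} (ht : t ∈ (T : Subgroup Y)) (ht1 : t ≠ 1) (hs : s ∈ (T : Subgroup Y))
    (hs1 : s ≠ 1) (hst : s ≠ t) (hg : g ∈ Loc.core t) : s * g * s⁻¹ = g⁻¹ := by
  have hst' : s * t = t * s := (GWFacts.comm_four T hT4 hsq hs ht).eq
  obtain ⟨f, hf, i, -, rfl, hfs, his⟩ := exists_fixed_inverted (Loc.core_odd t) (hsq s hs)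
    (fun d hd => Loc.core_conj_mem hst' hd) hg
  have hf1 : f = 1 := by
    refine hsc f (Loc.odd_orderOf (Loc.core_odd t) hf) fun x hx => ?_
    have hft : f * t = t * f := mem_centralizer_singleton_iff.1 (Loc.core_le t hf)
    have hfs' : f * s = s * f := (mul_inv_eq_iff_eq_mul.1 hfs).symm
    rcases four_cases T hT4 hsq ht ht1 hs hs1 hst hx with rfl | rfl | rfl | rfl
    · simp
    · exact hft
    · exact hfs'
    · exact Commute.mul_right hfs' hft
  rw [hf1, one_mul, his]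

include hT4 hsq hsc in
theorem core_comm {t g h : Y} (ht : t ∈ (T : Subgroup Y)) (ht1 : t ≠ 1) (hg : g ∈ Loc.core t)
    (hh : h ∈ Loc.core t) : g * h = h * g := by
  obtain ⟨s, hs, hs1, hst⟩ : ∃ s ∈ (T : Subgroup Y), s ≠ 1 ∧ s ≠ t := by
    by_contra hcon
    push Not at hcon
    have hsub : ((T : Subgroup Y) : Set Y) ⊆ {1, t} := fun y hy => by
      by_cases h : y = 1
      · exact Or.inl h
      · exact Or.inr (hcon y hy h)
    have := Set.ncard_le_ncard hsub (Set.toFinite _)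
    rw [Set.ncard_pair (Ne.symm ht1), ← Nat.card_coe_set_eq] at this
    change Nat.card ↥(T : Subgroup Y) ≤ 2 at this
    omega
  exact comm_of_inverted (core_inverted T hT4 hsq hsc ht ht1 hs hs1 hst hg)
    (core_inverted T hT4 hsq hsc ht ht1 hs hs1 hst hh)
    (core_inverted T hT4 hsq hsc ht ht1 hs hs1 hst (mul_mem hg hh))

end Gen

variable {X : Type u} [Group X] [Finite X] (S : Sylow 2 X) (hS4 : Nat.card (S : Subgroup X) = 4)
  (hsq : ∀ x ∈ (S : Subgroup X), x * x = 1)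
  (hfus : ∃ r ∈ normalizer ((S : Subgroup X) : Set X), ∃ x ∈ (S : Subgroup X), r * x * r⁻¹ ≠ x)
  (hO : Cfsg.oddCore X = ⊥)

include hS4 hsq hfus hO

/-- The characteristic part of the group. -/
theorem exists_L : ∃ L : Subgroup X, L.Normal ∧ (S : Subgroup X) ≤ L ∧ centralizer (L : Set X) = ⊥ ∧
    (∀ g ∈ L, Odd (orderOf g) → (∀ x ∈ (S : Subgroup X), g * x = x * g) → g = 1) ∧
    ∀ a ∈ (S : Subgroup X), a ≠ 1 → ∀ b ∈ (S : Subgroup X), b ≠ 1 →
      ∃ r ∈ L, r ∈ normalizer ((S : Subgroup X) : Set X) ∧ r * a * r⁻¹ = b := by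
  classical
  haveI := Fact.mk Nat.prime_two
  rcases GWFacts.four_shape S hS4 hsq hfus hO with ⟨hn, -, hC⟩ |
    ⟨L, F, iF, fF, hLn, hodd, h3, ⟨e⟩, hSL, hLC, -, -⟩
  · refine ⟨⊤, inferInstance, le_top, ?_, fun g _ ho hg => ?_, fun a ha ha1 b hb hb1 => ?_⟩
    · refine (Subgroup.eq_bot_iff_forall _).2 fun c hc => ?_
      have hcS : c ∈ (S : Subgroup X) := hC ▸ Subgroup.centralizer_le (Set.subset_univ _) (by simpa using hc)
      by_contra hc1
      obtain ⟨r, hr, x, hx, hrx⟩ := hfus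
      obtain ⟨n, -, hn'⟩ := GWFacts.normalizer_trans S hS4 hsq ⟨r, hr, x, hx, hrx⟩ hcS hc1 hx
        (fun e => hrx (by rw [e]; group))
      have hxc : x = c := by
        rw [← hn', mem_centralizer_iff.1 hc n (mem_top n), mul_inv_cancel_right]
      refine hrx ?_
      rw [hxc, mem_centralizer_iff.1 hc r (mem_top r), mul_inv_cancel_right]
    · exact Loc.eq_one_of_two_odd S.isPGroup' (hC ▸ mem_centralizer_iff.2 fun x hx => (hg x hx).symm) ho
    · obtain ⟨r, hr, h⟩ := GWFacts.normalizer_trans S hS4 hsq hfus ha ha1 hb hb1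
      exact ⟨r, mem_top r, hr, h⟩
  haveI := hLn
  have h2F : (2 : F) ≠ 0 := Cfsg.Agent.Classical.SylowSL2.two_ne_zero_of_odd hodd
  have hord : ∀ {t}, t ∈ (S : Subgroup X) → t ≠ 1 → orderOf t = 2 := fun {t} ht h1 =>
    orderOf_eq_prime (by rw [pow_two]; exact hsq t ht) h1
  have hordE : ∀ {t} (ht : t ∈ (S : Subgroup X)), t ≠ 1 → orderOf (e ⟨t, hSL ht⟩) = 2 := fun {t} ht h1 => by
    rw [MulEquiv.orderOf_eq, ← orderOf_coe, hord ht h1]
  refine ⟨L, hLn, hSL, hLC, fun g hg ho hgS => ?_, fun a ha ha1 b hb hb1 => ?_⟩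
  · obtain ⟨r, hr, x, hx, hrx⟩ := hfus
    have hx1 : x ≠ 1 := by rintro rfl; exact hrx (by group)
    have hy : r * x * r⁻¹ ∈ (S : Subgroup X) := (mem_normalizer_iff.1 hr x).1 hx
    have hy1 : r * x * r⁻¹ ≠ 1 := fun h => hx1 (conj_eq_one_iff.1 h)
    have hsq' : (⟨g, hg⟩ : L) * ⟨g, hg⟩ = 1 := by
      apply e.injective
      rw [map_mul, map_one]
      have hco : ∀ {p} (hp : p ∈ (S : Subgroup X)), Commute (e ⟨g, hg⟩) (e ⟨p, hSL hp⟩) := fun {p} hp =>
        Commute.map (show Commute (⟨g, hg⟩ : L) ⟨p, hSL hp⟩ from Subtype.ext (hgS p hp)) e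
      have hxy : Commute (e ⟨x, hSL hx⟩) (e ⟨_, hSL hy⟩) :=
        Commute.map (show Commute (⟨x, hSL hx⟩ : L) ⟨_, hSL hy⟩ from
          Subtype.ext (GWFacts.comm_four S hS4 hsq hx hy).eq) e
      rcases PSLBinary.mem_four h2F (hordE hx hx1) (hordE hy hy1)
          (fun h => hrx (congrArg Subtype.val (e.injective h)).symm) hxy (hco hx) (hco hy) with h | h | h | h <;>
        rw [h]
      · exact one_mul 1
      · exact Involutions.Basic.inv_sq_one (hordE hx hx1)
      · exact Involutions.Basic.inv_sq_one (hordE hy hy1)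
      · calc e ⟨x, hSL hx⟩ * e ⟨_, hSL hy⟩ * (e ⟨x, hSL hx⟩ * e ⟨_, hSL hy⟩)
            = e ⟨x, hSL hx⟩ * e ⟨x, hSL hx⟩ * (e ⟨_, hSL hy⟩ * e ⟨_, hSL hy⟩) := by
              rw [mul_assoc, ← mul_assoc (e ⟨_, hSL hy⟩) (e ⟨x, hSL hx⟩), ← hxy.eq]; group
          _ = 1 := by rw [Involutions.Basic.inv_sq_one (hordE hx hx1), Involutions.Basic.inv_sq_one (hordE hy hy1),
              one_mul]
    obtain ⟨j, hj⟩ := Loc.mem_zpowers_sq ho
    have h1 : g * g = 1 := congrArg Subtype.val hsq'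
    rw [← hj, h1]
    simp
  · let SL : Sylow 2 ↥L := S.subtype hSL
    obtain ⟨c, hc⟩ := isConj_iff.1 (PSLBinary.involutions_conj (F := F) h2F (hordE ha ha1) (hordE hb hb1))
    obtain ⟨c, rfl⟩ := e.surjective c
    rw [← map_inv, ← map_mul, ← map_mul] at hc
    have hc' := e.injective hc
    obtain ⟨n, hn, hne⟩ := IndexFourCentre.Abelian.burnside SL (fun p hp q hq => Subtype.ext
      (GWFacts.comm_four S hS4 hsq (mem_subgroupOf.1 hp) (mem_subgroupOf.1 hq)).eq) (g := c)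
      (x := (⟨a, hSL ha⟩ : ↥L)) (mem_subgroupOf.2 ha) (by rw [hc']; exact mem_subgroupOf.2 hb)
    rw [hc'] at hne
    refine ⟨n, n.2, mem_normalizer_iff.2 fun y => ⟨fun hy => ?_, fun hy => ?_⟩, congrArg Subtype.val hne⟩
    · exact mem_subgroupOf.1 ((mem_normalizer_iff.1 hn ⟨y, hSL hy⟩).1 (mem_subgroupOf.2 hy))
    · have hyL : y ∈ L := by
        have := mul_mem (mul_mem (inv_mem n.2) (hSL hy)) n.2
        simpa [mul_assoc] using this
      exact mem_subgroupOf.1 ((mem_normalizer_iff.1 hn ⟨y, hyL⟩).2 (mem_subgroupOf.2 hy))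

/-- Elements of odd order of the centralizer of `t` inverted by another involution commute. -/
theorem tor {t s g h : X} (ht : t ∈ (S : Subgroup X)) (ht1 : t ≠ 1) (hs : s ∈ (S : Subgroup X))
    (hg : g * t = t * g) (hgo : Odd (orderOf g)) (hgs : s * g * s⁻¹ = g⁻¹)
    (hh : h * t = t * h) (hho : Odd (orderOf h)) (hhs : s * h * s⁻¹ = h⁻¹) : g * h = h * g := by
  obtain ⟨L, hLn, hSL, -, hsc, -⟩ := exists_L S hS4 hsq hfus hO
  have hmem : ∀ k : X, Odd (orderOf k) → s * k * s⁻¹ = k⁻¹ → k ∈ L := fun k hk hks => by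
    have h2 : k * k ∈ L := by
      have h1 := L.mul_mem (hLn.conj_mem s (hSL hs) k) (L.inv_mem (hSL hs))
      rwa [show k * s * k⁻¹ * s⁻¹ = k * (s * k⁻¹ * s⁻¹) by group,
        show s * k⁻¹ * s⁻¹ = (s * k * s⁻¹)⁻¹ by group, hks, inv_inv] at h1
    exact (zpowers_le.2 h2) (Loc.mem_zpowers_sq hk)
  let SL : Sylow 2 ↥L := S.subtype hSL
  have h4 : Nat.card (SL : Subgroup ↥L) = 4 := by
    rw [← hS4]; exact Nat.card_congr (subgroupOfEquivOfLe hSL).toEquiv
  have hsq' : ∀ x ∈ (SL : Subgroup ↥L), x * x = 1 := fun x hx => Subtype.ext (hsq _ (mem_subgroupOf.1 hx))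
  have hsc' : ∀ k : ↥L, Odd (orderOf k) → (∀ x ∈ (SL : Subgroup ↥L), k * x = x * k) → k = 1 := fun k hk hkx =>
    Subtype.ext (hsc k k.2 (by rwa [Subgroup.orderOf_coe]) fun x hx =>
      congrArg Subtype.val (hkx ⟨x, hSL hx⟩ (mem_subgroupOf.2 hx)))
  have hc : ∀ k (hk : k ∈ L), k * t = t * k → Odd (orderOf k) → (⟨k, hk⟩ : ↥L) ∈ Loc.core ⟨t, hSL ht⟩ :=
    fun k hk h1 h2 => odd_mem_core SL h4 hsq' (mem_subgroupOf.2 ht) (fun e => ht1 (congrArg Subtype.val e))
      (Subtype.ext h1) (by rwa [← Subgroup.orderOf_coe])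
  exact congrArg Subtype.val (core_comm SL h4 hsq' hsc' (mem_subgroupOf.2 ht) (fun e => ht1 (congrArg Subtype.val e))
    (hc g (hmem g hgo hgs) hg hgo) (hc h (hmem h hho hhs) hh hho))

/-- An element of odd order centralizing `S` and the inverted elements in one centralizer is trivial. -/
theorem gen {t s f : X} (ht : t ∈ (S : Subgroup X)) (ht1 : t ≠ 1) (hs : s ∈ (S : Subgroup X)) (hs1 : s ≠ 1)
    (hst : s ≠ t) (hfo : Odd (orderOf f)) (hfS : ∀ x ∈ (S : Subgroup X), f * x = x * f)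
    (hfl : ∀ l : X, l * t = t * l → Odd (orderOf l) → s * l * s⁻¹ = l⁻¹ → f * l = l * f) : f = 1 := by
  classical
  haveI := Fact.mk Nat.prime_two
  obtain ⟨L, hLn, hSL, hLC, hsc, hfusL⟩ := exists_L S hS4 hsq hfus hO
  let SL : Sylow 2 ↥L := S.subtype hSL
  have h4 : Nat.card (SL : Subgroup ↥L) = 4 := by
    rw [← hS4]; exact Nat.card_congr (subgroupOfEquivOfLe hSL).toEquiv
  have hsq' : ∀ x ∈ (SL : Subgroup ↥L), x * x = 1 := fun x hx => Subtype.ext (hsq _ (mem_subgroupOf.1 hx))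
  have hsc' : ∀ k : ↥L, Odd (orderOf k) → (∀ x ∈ (SL : Subgroup ↥L), k * x = x * k) → k = 1 := fun k hk hkx =>
    Subtype.ext (hsc k k.2 (by rwa [Subgroup.orderOf_coe]) fun x hx =>
      congrArg Subtype.val (hkx ⟨x, hSL hx⟩ (mem_subgroupOf.2 hx)))
  -- `f` commutes with the centralizer of `t` in `L`
  have hft : ∀ l ∈ L, l * t = t * l → f * l = l * f := by
    intro l hl hlt
    have h1 := centralizer_le SL h4 hsq' (t := ⟨t, hSL ht⟩) (mem_subgroupOf.2 ht)
      (fun e => ht1 (congrArg Subtype.val e))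
      (mem_centralizer_singleton_iff.2 (show (⟨l, hl⟩ : ↥L) * ⟨t, hSL ht⟩ = ⟨t, hSL ht⟩ * ⟨l, hl⟩ from
        Subtype.ext hlt))
    obtain ⟨a, ha, d, hd, e⟩ := Loc.mem_sup_iff (fun y hy => Loc.core_normalizer (Subtype.ext
      (GWFacts.comm_four S hS4 hsq (mem_subgroupOf.1 hy) ht).eq)) h1
    have hd' : f * (d : X) = (d : X) * f := hfl d
      (congrArg Subtype.val (mem_centralizer_singleton_iff.1 (Loc.core_le _ hd)))
      (by rw [Subgroup.orderOf_coe]; exact Loc.odd_orderOf (Loc.core_odd _) hd)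
      (congrArg Subtype.val (core_inverted SL h4 hsq' hsc' (t := ⟨t, hSL ht⟩) (s := ⟨s, hSL hs⟩)
        (mem_subgroupOf.2 ht) (fun e => ht1 (congrArg Subtype.val e))
        (mem_subgroupOf.2 hs) (fun e => hs1 (congrArg Subtype.val e)) (fun e => hst (congrArg Subtype.val e)) hd))
    have e' : (a : X) * (d : X) = l := congrArg Subtype.val e
    rw [← e', ← mul_assoc, hfS a (mem_subgroupOf.1 ha), mul_assoc, hd', ← mul_assoc]
  -- `f` commutes with the fusion in `L`
  have hfr : ∀ r ∈ L, r ∈ normalizer ((S : Subgroup X) : Set X) → f * r = r * f := by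
    intro r hr hrN
    set c := f * r * f⁻¹ * r⁻¹ with hc
    have hcL : c ∈ L := L.mul_mem (hLn.conj_mem r hr f) (L.inv_mem hr)
    have hcS : ∀ x ∈ (S : Subgroup X), c * x = x * c := fun x hx => by
      refine mul_inv_eq_iff_eq_mul.1 ?_
      have hx' : r⁻¹ * x * r ∈ (S : Subgroup X) := by
        have := (mem_normalizer_iff.1 (inv_mem hrN) x).1 hx
        rwa [inv_inv] at this
      calc c * x * c⁻¹ = f * r * (f⁻¹ * (r⁻¹ * x * r * f)) * r⁻¹ * f⁻¹ := by rw [hc]; group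
        _ = f * x * f⁻¹ := by rw [← hfS _ hx', inv_mul_cancel_left]; group
        _ = x := by rw [hfS x hx, mul_inv_cancel_right]
    have hcin : c ∈ (S : Subgroup X) := by
      obtain ⟨a, b, ha, hb, hab, ⟨i, hi⟩, hbo⟩ := Loc.exists_parts c
      have hz : zpowers c ≤ centralizer ((S : Subgroup X) : Set X) :=
        zpowers_le.2 (mem_centralizer_iff.2 fun x hx => (hcS x hx).symm)
      have hb1 : b = 1 := hsc b ((zpowers_le.2 hcL) hb) hbo fun x hx => (mem_centralizer_iff.1 (hz hb) x hx).symm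
      have h2 : IsPGroup 2 ((S : Subgroup X) ⊔ zpowers a : Subgroup X) :=
        IsPGroup.to_sup_of_normal_left' S.isPGroup' (Loc.isPGroup_zpowers hi)
          (zpowers_le.2 (centralizer_le_normalizer _ (hz ha)))
      rw [← hab, hb1, mul_one]
      exact S.3 h2 le_sup_left ▸ mem_sup_right (mem_zpowers a)
    have hpow : ∀ k : ℕ, f ^ k * r * (f ^ k)⁻¹ = c ^ k * r := by
      intro k
      induction k with
      | zero => simp
      | succ k ih =>
        have hck : Commute f (c ^ k) := Commute.pow_right (hfS c hcin) k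
        calc f ^ (k + 1) * r * (f ^ (k + 1))⁻¹ = f * (f ^ k * r * (f ^ k)⁻¹) * f⁻¹ := by rw [pow_succ']; group
          _ = c ^ k * (f * r * f⁻¹) := by rw [ih, ← mul_assoc, hck.eq]; group
          _ = c ^ (k + 1) * r := by rw [pow_succ, hc]; group
    have hc1 : c = 1 := by
      have h := hpow (orderOf f)
      rw [pow_orderOf_eq_one, inv_one, one_mul, mul_one] at h
      replace h := mul_eq_right.1 h.symm
      obtain ⟨k, hk⟩ := hfo
      rw [hk, pow_succ, pow_mul, pow_two, hsq c hcin, one_pow, one_mul] at h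
      exact h
    rw [hc, mul_inv_eq_one] at hc1
    exact mul_inv_eq_iff_eq_mul.1 hc1
  -- the group `L⟨f⟩`
  set X1 := L ⊔ zpowers f
  have hfX : f ∈ X1 := mem_sup_right (mem_zpowers f)
  have hSX : (S : Subgroup X) ≤ X1 := hSL.trans le_sup_left
  let S1 : Sylow 2 ↥X1 := S.subtype hSX
  have h41 : Nat.card (S1 : Subgroup ↥X1) = 4 := by
    rw [← hS4]; exact Nat.card_congr (subgroupOfEquivOfLe hSX).toEquiv
  have hsq1 : ∀ x ∈ (S1 : Subgroup ↥X1), x * x = 1 := fun x hx => Subtype.ext (hsq _ (mem_subgroupOf.1 hx))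
  set H := centralizer ({(⟨f, hfX⟩ : ↥X1)} : Set ↥X1)
  have hH : ∀ g : ↥X1, f * (g : X) = (g : X) * f → g ∈ H := fun g hg =>
    mem_centralizer_singleton_iff.2 (Subtype.ext hg.symm)
  have hcent : ∀ p ∈ (S1 : Subgroup ↥X1), p ≠ 1 → centralizer ({p} : Set ↥X1) ≤ H := by
    intro p hp hp1 g hg
    have hpS : (p : X) ∈ (S : Subgroup X) := mem_subgroupOf.1 hp
    have hgp : (g : X) * p = p * g := congrArg Subtype.val (mem_centralizer_singleton_iff.1 hg)
    obtain ⟨l, hl, z, hz, e⟩ := Subgroup.mem_sup_of_normal_left.1 g.2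
    obtain ⟨j, rfl⟩ := hz
    have hfp : Commute (f ^ j) (p : X) := Commute.zpow_left (hfS p hpS) j
    have hlp : l * (p : X) = p * l := by
      have e' : l = (g : X) * (f ^ j)⁻¹ := by rw [← e, mul_inv_cancel_right]
      rw [e']
      exact (Commute.mul_left (show Commute (g : X) (p : X) from hgp) hfp.inv_left).eq
    obtain ⟨r, hrL, hrN, hre⟩ := hfusL t ht ht1 p hpS (fun e => hp1 (Subtype.ext e))
    have hl' : f * (r⁻¹ * l * r) = r⁻¹ * l * r * f := hft _ (L.mul_mem (L.mul_mem (L.inv_mem hrL) hl) hrL) (by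
      have ht' : t = r⁻¹ * p * r := by rw [← hre]; group
      rw [ht']
      calc r⁻¹ * l * r * (r⁻¹ * p * r) = r⁻¹ * (l * p) * r := by group
        _ = r⁻¹ * ((p : X) * l) * r := by rw [hlp]
        _ = _ := by group)
    have hr : Commute f r := hfr r hrL hrN
    refine hH g ?_
    rw [← e]
    have hfl' : Commute f l := by
      have : Commute f (r * (r⁻¹ * l * r) * r⁻¹) := (hr.mul_right hl').mul_right hr.inv_right
      rwa [show r * (r⁻¹ * l * r) * r⁻¹ = l by group] at this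
    exact (hfl'.mul_right (Commute.zpow_right (Commute.refl f) j)).eq
  obtain ⟨r, hrL, hrN, hre⟩ := hfusL t ht ht1 s hs hs1
  have hr1 : (⟨r, mem_sup_left hrL⟩ : ↥X1) ∈ normalizer ((S1 : Subgroup ↥X1) : Set ↥X1) :=
    mem_normalizer_iff.2 fun y => by
      rw [S.coe_subtype, mem_subgroupOf, mem_subgroupOf]
      exact mem_normalizer_iff.1 hrN _
  have hfus1 : ∃ r' ∈ H, r' ∈ normalizer ((S1 : Subgroup ↥X1) : Set ↥X1) ∧
      ∃ x ∈ (S1 : Subgroup ↥X1), r' * x * r'⁻¹ ≠ x :=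
    ⟨⟨r, mem_sup_left hrL⟩, hH _ (hfr r hrL hrN), hr1, ⟨t, hSX ht⟩, mem_subgroupOf.2 ht,
      fun e => hst (hre.symm.trans (congrArg Subtype.val e))⟩
  have hO1 : Cfsg.oddCore ↥X1 = ⊥ := by
    set N := (Cfsg.oddCore ↥X1).map X1.subtype
    haveI := Loc.oddCore_normal ↥X1
    haveI := Loc.oddCore_normal ↥L
    have hNodd : Odd (Nat.card N) := by
      rw [card_map_of_injective X1.subtype_injective]; exact InvChar.Core.odd_card_oddCore
    have hNn : ∀ g ∈ X1, ∀ n ∈ N, g * n * g⁻¹ ∈ N := by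
      rintro g hg _ ⟨n, hn, rfl⟩
      exact ⟨⟨g, hg⟩ * n * ⟨g, hg⟩⁻¹, (Loc.oddCore_normal ↥X1).conj_mem n hn _, rfl⟩
    have hNL : N ⊓ L = ⊥ := by
      have hle : (N ⊓ L).subgroupOf L ≤ Cfsg.oddCore ↥L := by
        refine InvChar.Core.le_oddCore (N := (N ⊓ L).subgroupOf L) ⟨fun n hn g => mem_subgroupOf.2
          ⟨hNn g (mem_sup_left g.2) n (mem_subgroupOf.1 hn).1, (g * n * g⁻¹).2⟩⟩ ?_
        exact hNodd.of_dvd_nat (dvd_trans (dvd_of_eq
          (Nat.card_congr (subgroupOfEquivOfLe (inf_le_right : N ⊓ L ≤ L)).toEquiv))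
          (card_dvd_of_le (inf_le_left : N ⊓ L ≤ N)))
      have hOL : Cfsg.oddCore ↥L = ⊥ := by
        have h := InvChar.Core.le_oddCore (N := (Cfsg.oddCore ↥L).map L.subtype) inferInstance
          (by rw [card_map_of_injective L.subtype_injective]; exact InvChar.Core.odd_card_oddCore)
        rw [hO, le_bot_iff, map_eq_bot_iff_of_injective _ L.subtype_injective] at h
        exact h
      rw [hOL, le_bot_iff, subgroupOf_eq_bot] at hle
      exact (Subgroup.eq_bot_iff_forall _).2 fun n hn => mem_bot.1 (hle.le_bot ⟨hn, hn.2⟩)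
    refine (Subgroup.eq_bot_iff_forall _).2 fun n hn => Subtype.ext ?_
    have hnC : (n : X) ∈ centralizer (L : Set X) := mem_centralizer_iff.2 fun l hl => by
      have h1 : (n : X) * l * (n : X)⁻¹ * l⁻¹ ∈ N ⊓ L := ⟨by
          rw [show (n : X) * l * (n : X)⁻¹ * l⁻¹ = (n : X) * (l * (n : X)⁻¹ * l⁻¹) by group]
          exact N.mul_mem ⟨n, hn, rfl⟩ (hNn l (mem_sup_left hl) _ (N.inv_mem ⟨n, hn, rfl⟩)),
        L.mul_mem (hLn.conj_mem l hl n) (L.inv_mem hl)⟩
      rw [hNL, mem_bot, mul_inv_eq_one, mul_inv_eq_iff_eq_mul] at h1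
      exact h1.symm
    rw [hLC] at hnC
    exact mem_bot.1 hnC
  rcases KleinFive.eq_top_or_index_five S1 h41 hsq1 H hcent hfus1 hO1 with htop | ⟨hidx, h60⟩
  · have : f ∈ centralizer (L : Set X) := mem_centralizer_iff.2 fun l hl =>
      congrArg Subtype.val (mem_centralizer_singleton_iff.1
        (show (⟨l, mem_sup_left hl⟩ : ↥X1) ∈ H from htop ▸ mem_top _))
    rw [hLC] at this
    exact mem_bot.1 this
  · by_contra hf1
    have hH12 : Nat.card H = 12 := by
      have := H.card_mul_index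
      rw [hidx, h60] at this
      omega
    set P := (S1 : Subgroup ↥X1) ⊔ zpowers (⟨f, hfX⟩ : ↥X1)
    have hPH : P ≤ H := sup_le (fun x hx => hH x (hfS x (mem_subgroupOf.1 hx))) (zpowers_le.2 (hH _ rfl))
    have h4P : 4 ∣ Nat.card P := h41 ▸ card_dvd_of_le le_sup_left
    have ho : orderOf (⟨f, hfX⟩ : ↥X1) = orderOf f := Subgroup.orderOf_mk _ _
    have h3 : orderOf f ∣ 12 := by
      rw [← ho, ← Nat.card_zpowers, ← hH12]
      exact card_dvd_of_le (le_sup_right.trans hPH)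
    have hf3 : orderOf f = 3 := by
      have h3' : orderOf f ∣ 3 := (Nat.Coprime.pow_right 2 (Nat.coprime_two_right.2 hfo)).dvd_of_dvd_mul_left
        (show orderOf f ∣ 2 ^ 2 * 3 by simpa using h3)
      rcases (Nat.dvd_prime Nat.prime_three).1 h3' with h | h
      · exact absurd (orderOf_eq_one_iff.1 h) hf1
      · exact h
    have h3P : 3 ∣ Nat.card P := by
      rw [← hf3, ← ho, ← Nat.card_zpowers]
      exact card_dvd_of_le le_sup_right
    have hPeq : P = H := eq_of_le_of_card_ge hPH (by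
      rw [hH12]
      exact Nat.le_of_dvd Nat.card_pos (Nat.Coprime.mul_dvd_of_dvd_of_dvd (by norm_num) h4P h3P))
    have hPc : P ≤ centralizer ({(⟨t, hSX ht⟩ : ↥X1)} : Set ↥X1) := sup_le
      (fun x hx => mem_centralizer_singleton_iff.2 (Subtype.ext
        (GWFacts.comm_four S hS4 hsq (mem_subgroupOf.1 hx) ht).eq))
      (zpowers_le.2 (mem_centralizer_singleton_iff.2 (Subtype.ext (hfS t ht))))
    have hrt := mem_centralizer_singleton_iff.1
      (hPc (hPeq ▸ hH ⟨r, mem_sup_left hrL⟩ (hfr r hrL hrN)))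
    refine hst (hre.symm.trans ?_)
    rw [show r * t = t * r from congrArg Subtype.val hrt, mul_inv_cancel_right]

end Cfsg.Agent.J2Type.KleinCent
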