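import Cfsg.Agent.Lib.J2Type.TwoClass.Quot

/-!
Two classes of involutions: consequences of the structure of the centralizer of an element of `A` outside
`⟨z, x⟩`.
-/

set_option autoImplicit false
set_option linter.style.haveILetI false
set_option linter.unusedSectionVars false
set_option maxHeartbeats 1000000

namespace Cfsg.Agent.J2Type

open Subgroup
open scoped commutatorElement

universe u

variable {G : Type u} [Group G]

namespace Syl

variable [Finite G] {S : Sylow 2 G} {ρ : ℕ → G} (F : Syl (S : Subgroup G) ρ) [IsSimpleGroup G]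
  (hno : ¬ IsConj (ρ 16) (ρ 416))
  {v n : G} {D : Subgroup G} (hv : Out ρ v) (hD : Central ρ v n D)

include F hno hv

/-- The centralizer of `v` and an involution of `⟨z, x⟩` is `A` times odd elements. -/
theorem cent_two_le {t : G} (ht : t ∈ subZ ρ) (ht1 : t ≠ 1) {g : G} (hgv : g * v = v * g) (hgt : g * t = t * g) :
    g ∈ subA ρ ⊔ Loc.core t := by
  classical
  haveI : Fact (Nat.Prime 2) := ⟨Nat.prime_two⟩
  set H := centralizer ({v} : Set G) ⊓ centralizer ({t} : Set G)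
  have hAH : subA ρ ≤ H := le_inf (F.A_le_cent hv.1) (F.A_le_cent (F.Z0_le_A ht))
  have hgH : g ∈ H := ⟨mem_centralizer_singleton_iff.2 hgv, mem_centralizer_singleton_iff.2 hgt⟩
  set O := (Loc.core t).subgroupOf H
  haveI : O.Normal :=
    ⟨fun y hy c => Loc.core_conj_mem (mem_centralizer_singleton_iff.1 c.2.2) hy⟩
  obtain ⟨P, hP⟩ := (F.A_p.comap_subtype : IsPGroup 2 ((subA ρ).subgroupOf H)).exists_le_sylow
  have heq : subA ρ = (P : Subgroup H).map H.subtype := eq_of_le_of_card_ge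
    (fun s hs => ⟨⟨s, hAH hs⟩, hP hs, rfl⟩)
    ((F.card_le_cent hno hv (P.isPGroup'.map _) ((map_subtype_le _).trans inf_le_left)).trans F.card_A.ge)
  set π := QuotientGroup.mk' O
  have hall : IsPGroup 2 (H ⧸ O) := by
    refine IsPGroup.iff_orderOf.2 fun x => ?_
    obtain ⟨c, rfl⟩ := QuotientGroup.mk_surjective x
    obtain ⟨a, b, ha, hb, hab, ⟨i, hi⟩, hbo⟩ := Loc.exists_parts c
    have hb1 : (QuotientGroup.mk b : H ⧸ O) = 1 :=
      (QuotientGroup.eq_one_iff _).2 (F.odd_mem_core_t hno ht ht1 hv (mem_centralizer_singleton_iff.1 b.2.2)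
        (mem_centralizer_singleton_iff.1 b.2.1) (show Odd (orderOf (b : G)) by rwa [Subgroup.orderOf_coe]))
    rw [← hab, QuotientGroup.mk_mul, hb1, mul_one]
    obtain ⟨j, -, hj⟩ := (Nat.dvd_prime_pow Nat.prime_two).1 ((orderOf_map_dvd π a).trans hi)
    exact ⟨j, hj⟩
  let Q := P.mapSurjective (f := π) (QuotientGroup.mk'_surjective _)
  have hQ : (⊤ : Subgroup (H ⧸ O)) = (Q : Subgroup (H ⧸ O)) :=
    Q.3 (hall.of_injective (Subgroup.subtype _) Subtype.val_injective) le_top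
  have h3 : π ⟨g, hgH⟩ ∈ (Q : Subgroup (H ⧸ O)) := hQ ▸ mem_top _
  obtain ⟨s, hs, e⟩ := (show π ⟨g, hgH⟩ ∈ (P : Subgroup H).map π from h3)
  rw [QuotientGroup.mk'_apply, QuotientGroup.mk'_apply, QuotientGroup.eq] at e
  have hsA : (s : G) ∈ subA ρ := by rw [heq]; exact ⟨s, hs, rfl⟩
  have h := mul_mem (mem_sup_left (T := Loc.core t) hsA) (mem_sup_right (S := subA ρ) (mem_subgroupOf.1 e))
  simpa using h

/-- The odd elements centralizing `A` lie in the core of `C(z)`. -/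
theorem odd_cent_A {g : G} (hg : ∀ a ∈ subA ρ, g * a = a * g) (hgo : Odd (orderOf g)) {t : G}
    (ht : t ∈ subZ ρ) (ht1 : t ≠ 1) : g ∈ Loc.core t :=
  F.odd_mem_core_t hno ht ht1 hv (hg t (F.Z0_le_A ht)) (hg v hv.1) hgo

include hD

/-- The centralizer of `v` lies in `M`, or its cores are balanced. -/
theorem cent_le_or_bal (M : Subgroup G) (hA : subA ρ ≤ M) (hOv : Loc.core v ≤ M) (hn : n ∈ M)
    (hOt : ∀ t ∈ subZ ρ, t ≠ 1 → Loc.core t ≤ M) :
    centralizer ({v} : Set G) ≤ M ∨ Bal ρ v := by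
  classical
  haveI : Fact (Nat.Prime 2) := ⟨Nat.prime_two⟩
  set C := centralizer ({v} : Set G) with hC
  obtain ⟨X, iX, fX, π, T, hQ⟩ := F.exists_quot hno hv hD
  set H := (M.subgroupOf C).map π
  have hDO : D ⊔ Loc.core v ≤ M := sup_le (hD.le.trans hA) hOv
  have hH : ∀ c : C, π c ∈ H → (c : G) ∈ M := by
    rintro c ⟨m, hm, e⟩
    have h1 : π (m⁻¹ * c) = 1 := by rw [map_mul, map_inv, e, inv_mul_cancel]
    have := M.mul_mem hm (hDO ((hQ.ker _).1 h1))
    simpa using this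
  have hcent : ∀ p ∈ (T : Subgroup X), p ≠ 1 → centralizer ({p} : Set X) ≤ H := by
    intro p hp hp1 q hq
    obtain ⟨a, ha, rfl⟩ := hQ.repr p hp
    obtain ⟨c, rfl⟩ := hQ.surj q
    have ha1 : (a : G) ≠ 1 := fun e => hp1 (by rw [show a = 1 from Subtype.ext e, map_one])
    obtain ⟨o, ho, hoc⟩ := F.lift_cent hno hv hD hQ ha ha1 (c := c) (mem_centralizer_singleton_iff.1 hq)
    have hcv := mem_centralizer_singleton_iff.1 c.2
    have hmem := F.cent_two_le hno hv ha ha1 (g := o * c) (by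
      rw [mul_assoc, hcv, ← mul_assoc, mem_centralizer_singleton_iff.1 (Loc.core_le v ho), mul_assoc]) hoc
    refine ⟨c, ?_, rfl⟩
    have := M.mul_mem (M.inv_mem (hOv ho)) ((sup_le hA (hOt _ ha ha1)) hmem)
    show (c : G) ∈ M
    rwa [inv_mul_cancel_left] at this
  have hfus : ∃ r ∈ H, r ∈ normalizer ((T : Subgroup X) : Set X) ∧ ∃ x ∈ (T : Subgroup X), r * x * r⁻¹ ≠ x := by
    obtain ⟨r, hr, hr'⟩ := F.quot_fus hno hv hD hQ
    exact ⟨r, Subgroup.map_mono (zpowers_le.2 (mem_subgroupOf.2 hn)) hr, hr'⟩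
  rcases KleinFive.eq_top_or_index_five T hQ.card hQ.sq H hcent hfus hQ.noCore with htop | ⟨h5, h60⟩
  · exact Or.inl fun g hg => hH ⟨g, hg⟩ (htop ▸ mem_top _)
  · right
    intro t ht ht1 g hgv hgt hgo
    have hH12 : Nat.card H = 12 := by
      have := H.card_mul_index
      rw [h5, h60] at this
      omega
    set a : C := ⟨t, F.A_le_cent hv.1 (F.Z0_le_A ht)⟩
    set c : C := ⟨g, mem_centralizer_singleton_iff.2 hgv⟩
    have hga : π c * π a = π a * π c := by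
      rw [← map_mul, ← map_mul]; exact congrArg π (Subtype.ext hgt)
    have hpT : π a ∈ (T : Subgroup X) := hQ.mem a (F.Z0_le_A ht)
    have hp1 : π a ≠ 1 := fun e => ht1 (congrArg Subtype.val (hQ.inj a ht e))
    refine F.ker_odd hno hv hD hQ (c := c) ?_ hgo
    by_contra hc1
    have hcH : π c ∈ H := hcent _ hpT hp1 (mem_centralizer_singleton_iff.2 hga)
    have ho : Odd (orderOf (π c)) := hgo.of_dvd_nat ((orderOf_map_dvd π c).trans (by rw [Subgroup.orderOf_mk]))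
    have hd : orderOf (π c) ∣ 12 := by
      rw [← hH12, ← Nat.card_zpowers]
      exact card_dvd_of_le (zpowers_le.2 hcH)
    have h3 : orderOf (π c) = 3 := by
      have h3' : orderOf (π c) ∣ 3 := (Nat.Coprime.pow_right 2 (Nat.coprime_two_right.2 ho)).dvd_of_dvd_mul_left
        (show orderOf (π c) ∣ 2 ^ 2 * 3 by simpa using hd)
      rcases (Nat.dvd_prime Nat.prime_three).1 h3' with h | h
      · exact absurd (orderOf_eq_one_iff.1 h) hc1
      · exact h
    set P := (T : Subgroup X) ⊔ zpowers (π c)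
    have hTH : (T : Subgroup X) ≤ H := KleinFive.sylow_le T hQ.card hQ.sq H hcent hfus
    have hPH : P ≤ H := sup_le hTH (zpowers_le.2 hcH)
    have hP4 : 4 ∣ Nat.card P := hQ.card ▸ card_dvd_of_le le_sup_left
    have hP3 : 3 ∣ Nat.card P := by
      rw [← h3, ← Nat.card_zpowers]
      exact card_dvd_of_le le_sup_right
    have hPeq : P = H := eq_of_le_of_card_ge hPH (by
      rw [hH12]
      exact Nat.le_of_dvd Nat.card_pos (Nat.Coprime.mul_dvd_of_dvd_of_dvd (by norm_num) hP4 hP3))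
    have hPc : P ≤ centralizer ({π a} : Set X) := sup_le
      (fun x hx => mem_centralizer_singleton_iff.2 (TwoPointA5.GWFacts.comm_four T hQ.card hQ.sq hx hpT).eq)
      (zpowers_le.2 (mem_centralizer_singleton_iff.2 hga))
    set m : C := ⟨n, mem_centralizer_singleton_iff.2 hD.nv⟩
    have hmH : π m ∈ P := by
      rw [hPeq]
      exact ⟨m, hn, rfl⟩
    have hma := mem_centralizer_singleton_iff.1 (hPc hmH)
    have h1 : π (m * a * m⁻¹ * a⁻¹) = 1 := by
      rw [map_mul, map_mul, map_mul, map_inv, map_inv, hma, mul_inv_cancel_right, mul_inv_cancel]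
    have h2 := congrArg Subtype.val (hQ.inj _
      ((subZ ρ).mul_mem (F.norm_Z0 hno hD.nA ht) ((subZ ρ).inv_mem ht)) h1)
    have h3' : n * t * n⁻¹ = t := mul_inv_eq_one.1 h2
    have := F.norm_fix hno hD.nA ht ht1 (mul_inv_eq_iff_eq_mul.1 h3') F.z_mem_Z0
    exact F.x_ne_z (hD.n16.symm.trans (by rw [this, mul_inv_cancel_right]))

/-- Inverted odd elements of `C(v) ∩ C(t)` commute modulo the core. -/
theorem tor {t s g h : G} (ht : t ∈ subZ ρ) (ht1 : t ≠ 1) (hs : s ∈ subZ ρ)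
    (hgv : g * v = v * g) (hgt : g * t = t * g) (hgo : Odd (orderOf g)) (hgs : s * g * s⁻¹ = g⁻¹)
    (hhv : h * v = v * h) (hht : h * t = t * h) (hho : Odd (orderOf h)) (hhs : s * h * s⁻¹ = h⁻¹)
    (hco : Odd (orderOf (g * h * g⁻¹ * h⁻¹))) : g * h * g⁻¹ * h⁻¹ ∈ Loc.core v := by
  obtain ⟨X, iX, fX, π, T, hQ⟩ := F.exists_quot hno hv hD
  set a : ↥(centralizer ({v} : Set G)) := ⟨t, F.A_le_cent hv.1 (F.Z0_le_A ht)⟩
  set b : ↥(centralizer ({v} : Set G)) := ⟨s, F.A_le_cent hv.1 (F.Z0_le_A hs)⟩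
  set g' : ↥(centralizer ({v} : Set G)) := ⟨g, mem_centralizer_singleton_iff.2 hgv⟩
  set h' : ↥(centralizer ({v} : Set G)) := ⟨h, mem_centralizer_singleton_iff.2 hhv⟩
  have hodd : ∀ c : ↥(centralizer ({v} : Set G)), Odd (orderOf (c : G)) → Odd (orderOf (π c)) := fun c hc =>
    hc.of_dvd_nat ((orderOf_map_dvd π c).trans (by rw [Subgroup.orderOf_coe]))
  have hgh := KleinCent.tor T hQ.card hQ.sq (F.quot_fus' hno hv hD hQ) hQ.noCore
    (t := π a) (s := π b) (g := π g') (h := π h')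
    (hQ.mem a (F.Z0_le_A ht)) (fun e => ht1 (congrArg Subtype.val (hQ.inj a ht e))) (hQ.mem b (F.Z0_le_A hs))
    (by rw [← map_mul, ← map_mul]; exact congrArg π (Subtype.ext hgt)) (hodd g' hgo)
    (by rw [← map_inv, ← map_mul, ← map_mul, ← map_inv]; exact congrArg π (Subtype.ext hgs))
    (by rw [← map_mul, ← map_mul]; exact congrArg π (Subtype.ext hht)) (hodd h' hho)
    (by rw [← map_inv, ← map_mul, ← map_mul, ← map_inv]; exact congrArg π (Subtype.ext hhs))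
  refine F.ker_odd hno hv hD hQ (c := g' * h' * g'⁻¹ * h'⁻¹) ?_ hco
  rw [map_mul, map_mul, map_mul, map_inv, map_inv, hgh, mul_inv_cancel_right, mul_inv_cancel]

/-- An odd element centralizing `A` and the inverted elements lies in the core. -/
theorem gen {f : G} (hfo : Odd (orderOf f)) (hfA : ∀ a ∈ subA ρ, f * a = a * f)
    (hcomm : ∀ g ∈ Loc.core (ρ 16), g * v = v * g → ρ 15 * g * (ρ 15)⁻¹ = g⁻¹ → f * g = g * f) :
    f ∈ Loc.core v := by
  set C := centralizer ({v} : Set G)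
  obtain ⟨X, iX, fX, π, T, hQ⟩ := F.exists_quot hno hv hD
  set a : C := ⟨ρ 16, F.A_le_cent hv.1 (F.Z0_le_A F.z_mem_Z0)⟩
  set b : C := ⟨ρ 15, F.A_le_cent hv.1 (F.Z0_le_A F.x_mem_Z0)⟩
  set f' : C := ⟨f, mem_centralizer_singleton_iff.2 (hfA v hv.1)⟩
  have hz1 := Involutions.Basic.ne_one F.order_z
  have ha1 : π a ≠ 1 := fun e => hz1 (congrArg Subtype.val (hQ.inj a F.z_mem_Z0 e))
  have hb1 : π b ≠ 1 := fun e => Involutions.Basic.ne_one F.order_x (congrArg Subtype.val (hQ.inj b F.x_mem_Z0 e))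
  have hab : π b ≠ π a := fun e => F.x_ne_z (by
    have := congrArg Subtype.val (hQ.inj (a⁻¹ * b) ((subZ ρ).mul_mem ((subZ ρ).inv_mem F.z_mem_Z0) F.x_mem_Z0)
      (by rw [map_mul, map_inv, e, inv_mul_cancel]))
    exact (inv_mul_eq_one.1 this).symm)
  refine F.ker_odd hno hv hD hQ (c := f') (KleinCent.gen T hQ.card hQ.sq (F.quot_fus' hno hv hD hQ) hQ.noCore
    (t := π a) (s := π b) (f := π f') (hQ.mem a (F.Z0_le_A F.z_mem_Z0)) ha1
    (hQ.mem b (F.Z0_le_A F.x_mem_Z0)) hb1 hab ?_ ?_ ?_) hfo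
  · exact hfo.of_dvd_nat ((orderOf_map_dvd π f').trans (by rw [Subgroup.orderOf_mk]))
  · intro p hp
    obtain ⟨c, hc, rfl⟩ := hQ.repr p hp
    rw [← map_mul, ← map_mul]
    exact congrArg π (Subtype.ext (hfA c (F.Z0_le_A hc)))
  intro l hlt hlo hls
  obtain ⟨c, rfl⟩ := hQ.surj l
  obtain ⟨o, ho, hoc⟩ := F.lift_cent hno hv hD hQ F.z_mem_Z0 hz1 (c := c) hlt
  set o' : C := ⟨o, Loc.core_le v ho⟩
  set c0 : C := o' * c
  have hπ : π c0 = π c := by
    rw [map_mul, show π o' = 1 from (hQ.ker o').2 (mem_sup_right ho), one_mul]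
  obtain ⟨p, q, hp, hq, hpq, ⟨i, hi⟩, hqo⟩ := Loc.exists_parts c0
  have hp1 : π p = 1 := by
    obtain ⟨j, rfl⟩ := hp
    refine Loc.eq_one_of_two_odd (Loc.isPGroup_zpowers ((orderOf_map_dvd π _).trans hi))
      (mem_zpowers _) (hlo.of_dvd_nat ?_)
    show orderOf (π (c0 ^ j)) ∣ orderOf (π c)
    rw [map_zpow, hπ]
    exact orderOf_dvd_of_mem_zpowers ⟨j, rfl⟩
  have hq' : π q = π c := by rw [← hπ, ← hpq, map_mul, hp1, one_mul]
  have hcz : c0 * a = a * c0 := Subtype.ext hoc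
  have hqz : q * a = a * q := mem_centralizer_singleton_iff.1
    ((zpowers_le.2 (mem_centralizer_singleton_iff.2 hcz)) hq)
  have hqv := mem_centralizer_singleton_iff.1 q.2
  have hqzG : (q : G) * ρ 16 = ρ 16 * q := congrArg Subtype.val hqz
  have hqO : (q : G) ∈ Loc.core (ρ 16) :=
    F.odd_mem_core_t hno F.z_mem_Z0 hz1 hv hqzG hqv (by rwa [Subgroup.orderOf_coe])
  have hxz : ρ 15 * ρ 16 = ρ 16 * ρ 15 := F.A_comm (F.Z0_le_A F.x_mem_Z0) (F.Z0_le_A F.z_mem_Z0)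
  have hx2 : ρ 15 * ρ 15 = 1 := Involutions.Basic.inv_sq_one F.order_x
  have hxi : (ρ 15)⁻¹ = ρ 15 := Involutions.Basic.inv_eq F.order_x
  set h := q * b * q⁻¹ * b⁻¹ with hh
  have hhO : (h : G) ∈ Loc.core (ρ 16) := by
    show (q : G) * ρ 15 * (q : G)⁻¹ * (ρ 15)⁻¹ ∈ _
    rw [show (q : G) * ρ 15 * (q : G)⁻¹ * (ρ 15)⁻¹ = (q : G) * (ρ 15 * (q : G)⁻¹ * (ρ 15)⁻¹) by group]
    exact (Loc.core _).mul_mem hqO (Loc.core_conj_mem hxz ((Loc.core _).inv_mem hqO))
  have hhs : ρ 15 * (h : G) * (ρ 15)⁻¹ = (h : G)⁻¹ := by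
    show ρ 15 * ((q : G) * ρ 15 * (q : G)⁻¹ * (ρ 15)⁻¹) * (ρ 15)⁻¹ = ((q : G) * ρ 15 * (q : G)⁻¹ * (ρ 15)⁻¹)⁻¹
    simp only [mul_inv_rev, inv_inv]
    rw [hxi]
    calc ρ 15 * ((q : G) * ρ 15 * (q : G)⁻¹ * ρ 15) * ρ 15
        = ρ 15 * (q : G) * ρ 15 * (q : G)⁻¹ * (ρ 15 * ρ 15) := by simp only [mul_assoc]
      _ = ρ 15 * ((q : G) * (ρ 15 * (q : G)⁻¹)) := by rw [hx2, mul_one]; simp only [mul_assoc]
  have hfh : f * (h : G) = (h : G) * f :=
    hcomm _ hhO (mem_centralizer_singleton_iff.1 h.2) hhs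
  have hπh : π h = π c * π c := by
    rw [hh, map_mul, map_mul, map_mul, map_inv, map_inv, hq']
    rw [show π c * π b * (π c)⁻¹ * (π b)⁻¹ = π c * (π b * (π c)⁻¹ * (π b)⁻¹) by group,
      show π b * (π c)⁻¹ * (π b)⁻¹ = (π b * π c * (π b)⁻¹)⁻¹ by group, hls, inv_inv]
  refine (Loc.fix_of_sq hlo ?_).symm
  rw [← hπh, ← map_mul, ← map_mul]
  exact congrArg π (Subtype.ext hfh.symm)

end Syl

end Cfsg.Agent.J2Type
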