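import Cfsg.Agent.Lib.J2Type.TwoClass.Max

/-!
Two classes of involutions: the core of the centralizer of a 2-central involution is trivial.
-/

set_option autoImplicit false
set_option linter.style.haveILetI false
set_option linter.unusedSectionVars false
set_option maxHeartbeats 1000000

namespace Cfsg.Agent.J2Type

open Subgroup
open Cfsg.Agent.J2Uniq (mul inv cj)

universe u

variable {G : Type u} [Group G] [Finite G]

theorem final_codes : (∀ r ∈ rL, ∃ a ∈ aL, ∃ b ∈ bL, mul a b = r) ∧ (∀ s ∈ [1, 2, 4, 8, 15], s ∈ sgL) ∧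
    (∀ s ∈ [1, 2, 4, 8], mul 1 s ∈ qL ∧ mul 1 s ∈ rL) ∧
    (mul 15 2 ∈ qL ∧ mul (mul 15 2) 1 = mul 1 (mul 15 2) ∧ mul 15 15 = 0) ∧
    (mul (mul (mul (mul 1 2) 4) 8) 15 ∈ [0, 16]) ∧ (∀ b ∈ bL, cj 1 b ∈ aL) ∧
    (∀ p ∈ qL, ∀ q ∈ qL, mul p q = mul q p ∨ mul p q = mul 16 (mul q p)) := by
  decide +kernel

namespace Loc

theorem eq_one_of_eq_inv {g : G} (ho : Odd (orderOf g)) (h : g = g⁻¹) : g = 1 :=
  orderOf_eq_one_iff.1 (Nat.eq_one_of_dvd_coprimes (Nat.coprime_two_left.2 ho)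
    (orderOf_dvd_of_pow_eq_one (by rw [pow_two]; nth_rewrite 1 [h]; exact inv_mul_cancel g)) dvd_rfl)

end Loc

/-- The elements of `O(C(z))` fixed by `x`. -/
def fixX (ρ : ℕ → G) : Subgroup G := Loc.core (ρ 16) ⊓ centralizer ({ρ 15} : Set G)

/-- The elements of `O(C(z))` inverted by `s`. -/
def Inverted (ρ : ℕ → G) (s g : G) : Prop := g ∈ Loc.core (ρ 16) ∧ s * g * s⁻¹ = g⁻¹

namespace Syl

variable {S : Sylow 2 G} {ρ : ℕ → G} (F : Syl (S : Subgroup G) ρ)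

include F

theorem fixX_odd : Odd (Nat.card (fixX ρ)) := (Loc.core_odd _).of_dvd_nat (card_dvd_of_le inf_le_left)

theorem core_z_comm {g : G} (hg : g ∈ Loc.core (ρ 16)) : ρ 16 * g = g * ρ 16 :=
  (mem_centralizer_singleton_iff.1 (Loc.core_le _ hg)).symm

theorem xz_act {g : G} (hg : g ∈ Loc.core (ρ 16)) : ρ 31 * g * (ρ 31)⁻¹ = ρ 15 * g * (ρ 15)⁻¹ := by
  have hx : ρ 15 * ρ 16 = ρ 16 * ρ 15 := F.A_comm (F.Z0_le_A F.x_mem_Z0) (F.Z0_le_A F.z_mem_Z0)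
  rw [F.code_xz, ← hx]
  calc ρ 15 * ρ 16 * g * (ρ 15 * ρ 16)⁻¹ = ρ 15 * (ρ 16 * g) * ((ρ 16)⁻¹ * (ρ 15)⁻¹) := by group
    _ = _ := by rw [F.core_z_comm hg]; group

theorem Q_act {p q : ℕ} (hp : p ∈ qL) (hq : q ∈ qL) {g : G} (hg : g ∈ Loc.core (ρ 16)) :
    ρ p * (ρ q * g * (ρ q)⁻¹) * (ρ p)⁻¹ = ρ q * (ρ p * g * (ρ p)⁻¹) * (ρ q)⁻¹ := by
  have hps := (qL_facts.1 p hp).1
  have hqs := (qL_facts.1 q hq).1
  rw [show ρ p * (ρ q * g * (ρ q)⁻¹) * (ρ p)⁻¹ = ρ p * ρ q * g * (ρ p * ρ q)⁻¹ by group, ← F.mul_eq p hps q hqs]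
  rcases final_codes.2.2.2.2.2.2 p hp q hq with h | h
  · rw [h, F.mul_eq q hqs p hps]; group
  · have hqp := (sL_closed q hqs).2.2 p hps
    have h1 : ρ q * ρ p * g * (ρ q * ρ p)⁻¹ ∈ Loc.core (ρ 16) := Loc.core_conj_mem
      (F.z_comm ((S : Subgroup G).mul_mem (F.mem q hqs) (F.mem p hps))) hg
    rw [h, F.mul_eq 16 sixteen_central.1 _ hqp, F.mul_eq q hqs p hps,
      show ρ 16 * (ρ q * ρ p) * g * (ρ 16 * (ρ q * ρ p))⁻¹ =
        ρ 16 * (ρ q * ρ p * g * (ρ q * ρ p)⁻¹) * (ρ 16)⁻¹ by group, F.core_z_comm h1, mul_inv_cancel_right]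
    group

variable [IsSimpleGroup G] (hno : ¬ IsConj (ρ 16) (ρ 416))

include hno

theorem dlt_le_centA {E : Subgroup G} (hE : E ≤ subA ρ) (h4 : 4 ≤ Nat.card E) :
    dlt E ≤ centralizer (subA ρ : Set G) := by
  have h := F.dlt_le_sup hno hE h4
  rw [F.wHyp_bot hno, bot_sup_eq] at h
  exact h.trans inf_le_right

theorem fixX_core {f : G} (hf : f ∈ fixX ρ) {t : G} (ht : t ∈ subZ ρ) (ht1 : t ≠ 1) : f ∈ Loc.core t := by
  have hinv : subA ρ ≤ normalizer (fixX ρ : Set G) :=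
    (le_inf (F.core_A_inv (F.Z0_le_A F.z_mem_Z0)) ((F.A_le_cent (F.Z0_le_A F.x_mem_Z0)).trans le_normalizer)).trans
      inf_normalizer_le_normalizer_inf
  refine F.inv_le_core hno ht ht1 (fun g hg => mem_centralizer_singleton_iff.2 ?_) F.fixX_odd hinv hf
  have h16 := mem_centralizer_singleton_iff.1 (Loc.core_le _ hg.1)
  have h15 := mem_centralizer_singleton_iff.1 hg.2
  rcases F.Z0_cases.1 ht with rfl | rfl | rfl | rfl
  · simp
  · exact h16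
  · exact h15
  · rw [F.code_xz]; exact Commute.mul_right h16 h15

theorem fixX_centA {f : G} (hf : f ∈ fixX ρ) {a : G} (ha : a ∈ subA ρ) : f * a = a * f :=
  (mem_centralizer_iff.1 (F.dlt_le_centA hno F.Z0_le_A F.card_Z0.ge
    (mem_dlt.2 fun _ he he1 => F.fixX_core hno hf he he1)) a ha).symm

omit hno in
theorem fixX_y {f : G} (hf : f ∈ fixX ρ) : ρ 1 * f * (ρ 1)⁻¹ ∈ fixX ρ := by
  refine ⟨Loc.core_conj_mem (F.z_comm (F.mem 1 one_facts.1)) hf.1, mem_centralizer_singleton_iff.2 ?_⟩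
  have h31 : f * ρ 31 = ρ 31 * f := by
    rw [F.code_xz]
    exact Commute.mul_right (mem_centralizer_singleton_iff.1 (Loc.core_le _ hf.1)) (mem_centralizer_singleton_iff.1 hf.2)
  rw [← F.one_swap.2]
  calc ρ 1 * f * (ρ 1)⁻¹ * (ρ 1 * ρ 31 * (ρ 1)⁻¹) = ρ 1 * (f * ρ 31) * (ρ 1)⁻¹ := by group
    _ = ρ 1 * (ρ 31 * f) * (ρ 1)⁻¹ := by rw [h31]
    _ = _ := by group

/-- `R` centralizes the elements fixed by `x`. -/
theorem fixX_centR {f : G} (hf : f ∈ fixX ρ) {r : G} (hr : r ∈ subR ρ) : f * r = r * f := by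
  obtain ⟨c, hc, rfl⟩ := F.mem_R.1 hr
  obtain ⟨a, ha, b, hb, rfl⟩ := final_codes.1 c hc
  have hbs := (bL_sub b hb).2.1
  rw [F.mul_eq a (aL_sub a ha).2.1 b hbs]
  refine Commute.mul_right (F.fixX_centA hno hf (mem_sub_of_mem ha)) ?_
  have h1 : ρ 1 * ρ b * (ρ 1)⁻¹ ∈ subA ρ := F.one_conj_B (mem_sub_of_mem hb)
  have h2 := F.fixX_centA hno (F.fixX_y hf) h1
  show f * ρ b = ρ b * f
  calc f * ρ b = (ρ 1)⁻¹ * (ρ 1 * f * (ρ 1)⁻¹ * (ρ 1 * ρ b * (ρ 1)⁻¹)) * ρ 1 := by group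
    _ = ρ b * f := by rw [h2]; group

/-- The generators of the inverted part commute. -/
theorem gens_comm {H₁ H₂ : Subgroup G} (hH₁ : H₁ ≤ subA ρ) (hi₁ : H₁.relIndex (subA ρ) = 2)
    (hH₂ : H₂ ≤ subA ρ) (hi₂ : H₂.relIndex (subA ρ) = 2) (hz₁ : ρ 16 ∈ H₁) (hz₂ : ρ 16 ∈ H₂)
    {g h : G} (hg : Inverted ρ (ρ 15) g) (hgH : g ∈ centralizer (H₁ : Set G))
    (hh : Inverted ρ (ρ 15) h) (hhH : h ∈ centralizer (H₂ : Set G)) : g * h = h * g := by
  classical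
  haveI : Fact (Nat.Prime 2) := ⟨Nat.prime_two⟩
  have hgo := Loc.odd_orderOf (Loc.core_odd _) hg.1
  have hho := Loc.odd_orderOf (Loc.core_odd _) hh.1
  have hxA := F.Z0_le_A F.x_mem_Z0
  by_cases hx₁ : ρ 15 ∈ H₁
  · have : g = g⁻¹ := by
      conv_rhs => rw [← hg.2, mem_centralizer_iff.1 hgH _ hx₁, mul_inv_cancel_right]
    rw [Loc.eq_one_of_eq_inv hgo this]; simp
  set c := g * h * g⁻¹ * h⁻¹ with hc
  have hcO : c ∈ Loc.core (ρ 16) :=
    (Loc.core _).mul_mem ((Loc.core _).mul_mem ((Loc.core _).mul_mem hg.1 hh.1) ((Loc.core _).inv_mem hg.1))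
      ((Loc.core _).inv_mem hh.1)
  have hnot : ∀ t ∈ subZ ρ, t ∈ H₁ → t ≠ 1 → t = ρ 16 := fun t ht htH ht1 => by
    rcases F.Z0_cases.1 ht with rfl | rfl | rfl | rfl
    · exact absurd rfl ht1
    · rfl
    · exact absurd htH hx₁
    · refine absurd ?_ hx₁
      have := H₁.mul_mem (H₁.inv_mem hz₁) htH
      rwa [F.code_xz, inv_mul_cancel_left] at this
  have hdlt : c ∈ dlt (H₁ ⊓ H₂) := mem_dlt.2 fun e he he1 => by
    by_cases hez : e ∈ subZ ρ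
    · rw [hnot e hez he.1 he1]; exact hcO
    have hv : Out ρ e := ⟨hH₁ he.1, hez⟩
    obtain ⟨n, D, hD⟩ := F.exists_central hno hv
    exact F.tor hno hv hD F.z_mem_Z0 (Involutions.Basic.ne_one F.order_z) F.x_mem_Z0
      (mem_centralizer_iff.1 hgH e he.1).symm (mem_centralizer_singleton_iff.1 (Loc.core_le _ hg.1)) hgo hg.2
      (mem_centralizer_iff.1 hhH e he.2).symm (mem_centralizer_singleton_iff.1 (Loc.core_le _ hh.1)) hho hh.2
      (Loc.odd_orderOf (Loc.core_odd _) hcO)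
  by_cases heq : H₁ = H₂
  · have : c ∈ wHyp ρ := mem_iSup_of_mem (S := fun H : {H : Subgroup G // H ≤ subA ρ ∧ H.relIndex (subA ρ) = 2} =>
      dlt (H : Subgroup G)) ⟨H₁, hH₁, hi₁⟩ (by rwa [← heq, inf_idem] at hdlt)
    rw [F.wHyp_bot hno, mem_bot, hc, mul_inv_eq_one, mul_inv_eq_iff_eq_mul] at this
    exact this
  have hk : 2 ^ (2 + 2) ≤ Nat.card (subA ρ) := by rw [F.card_A]; norm_num
  have hE4 := Components.KBalance.card_le_of_hyperplane hk hH₁ hi₁ hi₂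
  have hcA := F.dlt_le_centA hno (inf_le_left.trans hH₁) hE4 hdlt
  obtain ⟨w, hw₂, hw₁⟩ : ∃ w ∈ H₂, w ∉ H₁ := by
    by_contra hcon
    push Not at hcon
    exact heq (eq_of_le_of_card_ge hcon (by
      rw [F.card_hyperplane_A hH₁ hi₁, F.card_hyperplane_A hH₂ hi₂])).symm
  have hwA := hH₂ hw₂
  have hu : w * ρ 15 ∈ H₁ := mem_subgroupOf.1
    ((Subgroup.mul_mem_iff_of_index_two (H := H₁.subgroupOf (subA ρ)) hi₁
      (a := (⟨w, hwA⟩ : subA ρ)) (b := ⟨ρ 15, hxA⟩)).2 (by simp [mem_subgroupOf, hw₁, hx₁]))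
  have hug : w * g * w⁻¹ = g⁻¹ := by
    have hu' : (w * ρ 15) * g⁻¹ = g⁻¹ * (w * ρ 15) :=
      ((Commute.inv_left (show Commute g (w * ρ 15) from (mem_centralizer_iff.1 hgH _ hu).symm)).eq).symm
    calc w * g * w⁻¹ = (w * ρ 15) * ((ρ 15)⁻¹ * g * ρ 15) * (w * ρ 15)⁻¹ := by group
      _ = (w * ρ 15) * g⁻¹ * (w * ρ 15)⁻¹ := by
        conv_lhs => rw [Involutions.Basic.inv_eq F.order_x]
        have := hg.2
        rw [Involutions.Basic.inv_eq F.order_x] at this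
        rw [this]
      _ = g⁻¹ := by rw [hu', mul_inv_cancel_right]
  have hwh : w * h * w⁻¹ = h := by rw [mem_centralizer_iff.1 hhH w hw₂, mul_inv_cancel_right]
  have hwc : w * c * w⁻¹ = c := by rw [mem_centralizer_iff.1 hcA w hwA, mul_inv_cancel_right]
  have h1 : g⁻¹ * h * g * h⁻¹ = g * h * g⁻¹ * h⁻¹ := by
    rw [← hc, ← hwc, hc, show w * (g * h * g⁻¹ * h⁻¹) * w⁻¹ =
      w * g * w⁻¹ * (w * h * w⁻¹) * (w * g * w⁻¹)⁻¹ * (w * h * w⁻¹)⁻¹ by group, hug, hwh, inv_inv]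
  have h2 : g⁻¹ * h * g = g * h * g⁻¹ := mul_right_cancel h1
  refine Loc.fix_of_sq hgo ?_
  calc g * g * h = g * g * (g⁻¹ * (g * h * g⁻¹) * g) := by group
    _ = g * g * (g⁻¹ * (g⁻¹ * h * g) * g) := by rw [h2]
    _ = h * (g * g) := by group

/-- The inverted elements commute. -/
theorem inv_comm {g h : G} (hg : Inverted ρ (ρ 15) g) (hh : Inverted ρ (ρ 15) h) : g * h = h * g := by
  classical
  haveI : Fact (Nat.Prime 2) := ⟨Nat.prime_two⟩
  have hxA := F.Z0_le_A F.x_mem_Z0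
  have hxz : ρ 15 * ρ 16 = ρ 16 * ρ 15 := F.A_comm hxA (F.Z0_le_A F.z_mem_Z0)
  set Y0 : Set G := {k | Inverted ρ (ρ 15) k ∧
    ∃ H : Subgroup G, H ≤ subA ρ ∧ H.relIndex (subA ρ) = 2 ∧ ρ 16 ∈ H ∧ k ∈ centralizer (H : Set G)}
  set Y := closure Y0
  have hYc : ∀ a ∈ Y, ∀ b ∈ Y, a * b = b * a := by
    have h0 : ∀ a ∈ Y0, ∀ b ∈ Y0, a * b = b * a := by
      rintro a ⟨ha, H, h1, h2, h3, h4⟩ b ⟨hb, K, k1, k2, k3, k4⟩
      exact F.gens_comm hno h1 h2 k1 k2 h3 k3 ha h4 hb k4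
    have h1 : Y ≤ centralizer Y0 := (closure_le _).2 fun a ha => mem_centralizer_iff.2 fun b hb => h0 b hb a ha
    have h2 : Y ≤ centralizer (Y : Set G) := by
      rw [centralizer_closure]; exact h1
    intro a ha b hb
    exact (mem_centralizer_iff.1 (h2 ha) b hb).symm
  have hYi : ∀ a ∈ Y, Inverted ρ (ρ 15) a := by
    intro a ha
    induction ha using closure_induction with
    | mem a ha => exact ha.1
    | one => exact ⟨one_mem _, by simp⟩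
    | mul a b ha hb iha ihb =>
      refine ⟨mul_mem iha.1 ihb.1, ?_⟩
      rw [show ρ 15 * (a * b) * (ρ 15)⁻¹ = ρ 15 * a * (ρ 15)⁻¹ * (ρ 15 * b * (ρ 15)⁻¹) by group, iha.2, ihb.2,
        ← mul_inv_rev, hYc a ha b hb]
    | inv a ha iha =>
      refine ⟨inv_mem iha.1, ?_⟩
      rw [show ρ 15 * a⁻¹ * (ρ 15)⁻¹ = (ρ 15 * a * (ρ 15)⁻¹)⁻¹ by group, iha.2]
  have hFY : fixX ρ ≤ normalizer (Y : Set G) := fun f hf => conj_mem_normalizer fun a ha => by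
    induction ha using closure_induction with
    | mem a ha =>
      obtain ⟨hai, H, h1, h2, h3, h4⟩ := ha
      have hfx : ρ 15 * f = f * ρ 15 := (mem_centralizer_singleton_iff.1 hf.2).symm
      refine subset_closure ⟨⟨mul_mem (mul_mem hf.1 hai.1) (inv_mem hf.1), ?_⟩, H, h1, h2, h3,
        mem_centralizer_iff.2 fun e he => ?_⟩
      · calc ρ 15 * (f * a * f⁻¹) * (ρ 15)⁻¹ = ρ 15 * f * a * (ρ 15 * f)⁻¹ := by group
          _ = f * (ρ 15 * a * (ρ 15)⁻¹) * f⁻¹ := by rw [hfx]; group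
          _ = (f * a * f⁻¹)⁻¹ := by rw [hai.2]; group
      · have hfe : Commute e f := (F.fixX_centA hno hf (h1 he)).symm
        exact ((hfe.mul_right (show Commute e a from mem_centralizer_iff.1 h4 e he)).mul_right hfe.inv_right).eq
    | one => simp
    | mul a b _ _ iha ihb =>
      rw [show f * (a * b) * f⁻¹ = f * a * f⁻¹ * (f * b * f⁻¹) by group]
      exact mul_mem iha ihb
    | inv a _ iha =>
      rw [show f * a⁻¹ * f⁻¹ = (f * a * f⁻¹)⁻¹ by group]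
      exact inv_mem iha
  have hle : Loc.core (ρ 16) ≤ fixX ρ ⊔ Y := by
    have hodd := Loc.core_odd (ρ 16)
    have hinv := F.core_A_inv (F.Z0_le_A F.z_mem_Z0)
    rw [Components.Hyperplane.eq_iSup_hyperplane F.A_elem (K := Loc.core (ρ 16)) (by rw [F.card_A]; norm_num)
      (fun h => Nat.not_even_iff_odd.2 hodd (even_iff_two_dvd.2 h)) hinv]
    refine iSup_le fun H k hk => ?_
    by_cases hzH : ρ 16 ∈ (H : Subgroup G)
    · obtain ⟨f, hf, i, hi, rfl, hfs, his⟩ := KleinCent.exists_fixed_inverted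
        (hodd.of_dvd_nat (card_dvd_of_le (inf_le_left : Loc.core (ρ 16) ⊓ centralizer ((H : Subgroup G) : Set G) ≤ _)))
        (s := ρ 15) (Involutions.Basic.inv_sq_one F.order_x) (fun d hd => ⟨Loc.core_conj_mem hxz hd.1,
          mem_centralizer_iff.2 fun e he =>
            have hxe : Commute e (ρ 15) := F.A_comm (H.2.1 he) hxA
            ((hxe.mul_right (show Commute e d from mem_centralizer_iff.1 hd.2 e he)).mul_right hxe.inv_right).eq⟩) hk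
      exact mul_mem (mem_sup_left ⟨hf.1, mem_centralizer_singleton_iff.2 (mul_inv_eq_iff_eq_mul.1 hfs).symm⟩)
        (mem_sup_right (subset_closure ⟨⟨hi.1, his⟩, H, H.2.1, H.2.2, hzH, hi.2⟩))
    · obtain ⟨t, ht, htH, ht1⟩ := F.meet_Z0 H.2.1 (F.card_hyperplane_A H.2.1 H.2.2).ge
      refine mem_sup_left ⟨hk.1, mem_centralizer_singleton_iff.2 ?_⟩
      have hkt : Commute k t := (mem_centralizer_iff.1 hk.2 t htH).symm
      have hkz : Commute k (ρ 16) := mem_centralizer_singleton_iff.1 (Loc.core_le _ hk.1)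
      rcases F.Z0_cases.1 ht with rfl | rfl | rfl | rfl
      · exact absurd rfl ht1
      · exact absurd htH hzH
      · exact hkt
      · have := hkz.inv_right.mul_right hkt
        rwa [F.code_xz, inv_mul_cancel_left] at this
  have hmem : ∀ k, Inverted ρ (ρ 15) k → k ∈ Y := by
    intro k hk
    obtain ⟨f, hf, y, hy, rfl⟩ := Loc.mem_sup_iff hFY (hle hk.1)
    have hfx : ρ 15 * f * (ρ 15)⁻¹ = f := by
      rw [← mem_centralizer_singleton_iff.1 hf.2, mul_inv_cancel_right]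
    have h1 := hk.2
    rw [show ρ 15 * (f * y) * (ρ 15)⁻¹ = ρ 15 * f * (ρ 15)⁻¹ * (ρ 15 * y * (ρ 15)⁻¹) by group, hfx, (hYi y hy).2,
      mul_inv_rev] at h1
    have h2 : y * f * y⁻¹ = f⁻¹ := by rw [mul_assoc, h1]; group
    have hyo := Loc.odd_orderOf (Loc.core_odd _) (hYi y hy).1
    have h3 : y * f = f * y := Loc.fix_of_sq hyo (mul_inv_eq_iff_eq_mul.1 (by
      calc y * y * f * (y * y)⁻¹ = y * (y * f * y⁻¹) * y⁻¹ := by group
        _ = y * f⁻¹ * y⁻¹ := by rw [h2]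
        _ = (y * f * y⁻¹)⁻¹ := by group
        _ = f := by rw [h2, inv_inv]))
    have hf1 : f = 1 := Loc.eq_one_of_eq_inv (Loc.odd_orderOf F.fixX_odd hf)
      (by rw [← h2, h3, mul_inv_cancel_right])
    rw [hf1, one_mul]
    exact hy
  exact hYc g (hmem g hg) h (hmem h hh)

omit hno in
/-- Each singular element is moved to `x` or `xz` by `N(Q) ∩ C(z)`. -/
theorem exists_to_x {s : ℕ} (hs : s ∈ sgL) : ∃ k ∈ centralizer ({ρ 16} : Set G),
    (∀ q ∈ qL, k * ρ q * k⁻¹ ∈ sub ρ qL) ∧ (k * ρ s * k⁻¹ = ρ 15 ∨ k * ρ s * k⁻¹ = ρ 31) := by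
  classical
  haveI : Fact (Nat.Prime 2) := ⟨Nat.prime_two⟩
  obtain ⟨g, hg, hgs⟩ := F.sing_to_x (F.exists_y_to_x (index_ne_two_of_simple F)) hs
  have hQS : sub ρ qL ≤ (S : Subgroup G) := fun x hx => by
    obtain ⟨a, ha, rfl⟩ := F.mem_Q.1 hx
    exact F.mem a (qL_facts.1 a ha).1
  have hQn : sub ρ qL ≤ normalizer (Loc.core (ρ 16) : Set G) := fun x hx =>
    Loc.core_normalizer (F.z_comm (hQS hx))
  have hmap : ∀ t ∈ sub ρ qL, g * t * g⁻¹ ∈ sub ρ qL ⊔ Loc.core (ρ 16) := by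
    intro t ht
    obtain ⟨q, hq, hqe⟩ := F.hN'.conj_mem _ ⟨⟨t, F.le_centralizer_z (hQS ht)⟩, ht, rfl⟩
      (QuotientGroup.mk' _ (⟨g, hg⟩ : centralizer ({ρ 16} : Set G)))
    rw [← map_inv, ← map_mul, ← map_mul, QuotientGroup.mk'_apply, QuotientGroup.mk'_apply, QuotientGroup.eq] at hqe
    have hd : (q : G)⁻¹ * (g * t * g⁻¹) ∈ Loc.core (ρ 16) := ⟨_, hqe, rfl⟩
    have := mul_mem (mem_sup_left (T := Loc.core (ρ 16)) (show (q : G) ∈ sub ρ qL from hq))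
      (mem_sup_right (S := sub ρ qL) hd)
    rwa [mul_inv_cancel_left] at this
  obtain ⟨d, hd, hdg⟩ := Loc.exists_mul_normalizer (S.isPGroup'.to_le hQS) (Loc.core_odd _) hQn hmap
  have hdz := Loc.core_le _ hd
  have hnq : ∀ q ∈ qL, d * g * ρ q * (d * g)⁻¹ ∈ sub ρ qL := fun q hq =>
    (mem_normalizer_iff.1 hdg _).1 (mem_sub_of_mem hq)
  refine ⟨d * g, mul_mem hdz hg, hnq, ?_⟩
  have key : ∀ c ∈ qL, g * ρ s * g⁻¹ = ρ c → d * g * ρ s * (d * g)⁻¹ = ρ c := by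
    intro c hc e
    have hsq : s ∈ qL := (types_sub.1 s hs).1
    have h1 : d * g * ρ s * (d * g)⁻¹ = d * ρ c * d⁻¹ := by rw [← e]; group
    have hcS : ρ c ∈ (S : Subgroup G) := F.mem c (qL_facts.1 c hc).1
    have h2 : (ρ c)⁻¹ * (d * ρ c * d⁻¹) ∈ Loc.core (ρ 16) := by
      have := (mem_normalizer_iff.1 (Loc.core_normalizer (F.z_comm ((S : Subgroup G).inv_mem hcS))) d).1 hd
      rw [inv_inv] at this
      rw [show (ρ c)⁻¹ * (d * ρ c * d⁻¹) = (ρ c)⁻¹ * d * ρ c * d⁻¹ by group]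
      exact (Loc.core _).mul_mem this ((Loc.core _).inv_mem hd)
    have h3 := Loc.inf_eq_bot S.isPGroup' (Loc.core_odd (ρ 16))
      ((S : Subgroup G).mul_mem ((S : Subgroup G).inv_mem hcS) (hQS (h1 ▸ hnq s hsq))) h2
    rw [h1]
    exact (inv_mul_eq_one.1 h3).symm
  have h15 : (15 : ℕ) ∈ qL ∧ (31 : ℕ) ∈ qL := by decide +kernel
  rcases hgs with e | e
  · exact Or.inl (key 15 h15.1 e)
  · exact Or.inr (key 31 h15.2 e)

omit hno in
theorem act_x {k : G} {s : ℕ} (hks : k * ρ s * k⁻¹ = ρ 15 ∨ k * ρ s * k⁻¹ = ρ 31) {g : G}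
    (hg : k * g * k⁻¹ ∈ Loc.core (ρ 16)) :
    k * (ρ s * g * (ρ s)⁻¹) * k⁻¹ = ρ 15 * (k * g * k⁻¹) * (ρ 15)⁻¹ := by
  rcases hks with e | e
  · rw [← e]; group
  · rw [← F.xz_act hg, ← e]; group

/-- The elements inverted by a singular element commute. -/
theorem inv_comm_sing {s : ℕ} (hs : s ∈ sgL) {g h : G} (hg : Inverted ρ (ρ s) g) (hh : Inverted ρ (ρ s) h) :
    g * h = h * g := by
  obtain ⟨k, hk, -, hks⟩ := F.exists_to_x hs
  have hmem : ∀ p, Inverted ρ (ρ s) p → Inverted ρ (ρ 15) (k * p * k⁻¹) := fun p hp => by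
    have h1 := Loc.core_conj_mem (mem_centralizer_singleton_iff.1 hk) hp.1
    refine ⟨h1, ?_⟩
    rw [← F.act_x hks h1, hp.2]
    group
  have h2 := F.inv_comm hno (hmem g hg) (hmem h hh)
  calc g * h = k⁻¹ * (k * g * k⁻¹ * (k * h * k⁻¹)) * k := by group
    _ = h * g := by rw [h2]; group

/-- The elements of `Q` commuting with a singular element centralize its fixed points in the core. -/
theorem fix_sing {s q : ℕ} (hs : s ∈ sgL) (hq : q ∈ qL) (hqs : mul q s = mul s q) {g : G}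
    (hg : g ∈ Loc.core (ρ 16)) (hgs : ρ s * g * (ρ s)⁻¹ = g) : ρ q * g = g * ρ q := by
  obtain ⟨k, hk, hkQ, hks⟩ := F.exists_to_x hs
  have hss := (types_sub.1 s hs).2.1
  have hqq := (qL_facts.1 q hq).1
  have h1 := Loc.core_conj_mem (mem_centralizer_singleton_iff.1 hk) hg
  have hfix : k * g * k⁻¹ ∈ fixX ρ := ⟨h1, mem_centralizer_singleton_iff.2
    (mul_inv_eq_iff_eq_mul.1 (by rw [← F.act_x hks h1, hgs])).symm⟩
  obtain ⟨c, hc, hce⟩ := F.mem_Q.1 (hkQ q hq)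
  have hcs := (qL_facts.1 c hc).1
  have hqs' : ρ q * ρ s = ρ s * ρ q := (F.comm hqq hss).2 hqs
  have hcR : c ∈ rL := by
    have h : ρ c * (k * ρ s * k⁻¹) = k * ρ s * k⁻¹ * ρ c := by
      rw [hce, show k * ρ q * k⁻¹ * (k * ρ s * k⁻¹) = k * (ρ q * ρ s) * k⁻¹ by group, hqs']
      group
    rcases hks with e | e
    · rw [e] at h
      exact (cent_zL.1 c hcs).1 ((F.comm zL_in_aL.2.2.2.2.1 hcs).1 h.symm)
    · rw [e] at h
      exact (cent_zL.2.1 c hcs).1 ((F.comm zL_in_aL.2.2.2.2.2 hcs).1 h.symm)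
  have h2 := F.fixX_centR hno hfix (mem_sub_of_mem hcR)
  rw [hce] at h2
  calc ρ q * g = k⁻¹ * (k * ρ q * k⁻¹ * (k * g * k⁻¹)) * k := by group
    _ = g * ρ q := by rw [← h2]; group

/-- An element fixed by `x` commuting with the inverted elements is trivial. -/
theorem fixX_trivial {f : G} (hf : f ∈ fixX ρ)
    (hc : ∀ g, Inverted ρ (ρ 15) g → f * g = g * f) : f = 1 := by
  classical
  haveI : Fact (Nat.Prime 2) := ⟨Nat.prime_two⟩
  have hfo := Loc.odd_orderOf F.fixX_odd hf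
  have hodd : Odd (Nat.card (zpowers f)) := by rwa [Nat.card_zpowers]
  have hA : subA ρ ≤ centralizer (zpowers f : Set G) :=
    le_centralizer_iff.1 (zpowers_le.2 (mem_centralizer_iff.2 fun a ha => (F.fixX_centA hno hf ha).symm))
  have hle : zpowers f ≤ wHyp ρ := by
    rw [Components.Hyperplane.eq_iSup_hyperplane F.A_elem (K := zpowers f) (by rw [F.card_A]; norm_num)
      (fun h => Nat.not_even_iff_odd.2 hodd (even_iff_two_dvd.2 h)) (hA.trans (centralizer_le_normalizer _))]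
    refine iSup_le fun H => le_iSup_of_le H fun p hp => (zpowers_le.2 ?_ : zpowers f ≤ dlt (H : Subgroup G)) hp.1
    refine mem_dlt.2 fun e he he1 => ?_
    by_cases hez : e ∈ subZ ρ
    · exact F.fixX_core hno hf hez he1
    obtain ⟨n, D, hD⟩ := F.exists_central hno ⟨H.2.1 he, hez⟩
    exact F.gen hno ⟨H.2.1 he, hez⟩ hD hfo (fun a ha => F.fixX_centA hno hf ha)
      fun g hg _ hgi => hc g ⟨hg, hgi⟩
  rw [F.wHyp_bot hno, le_bot_iff, zpowers_eq_bot] at hle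
  exact hle

/-- `y` centralizes the elements fixed by `x`. -/
theorem y_fixes {f : G} (hf : f ∈ fixX ρ) : ρ 1 * f * (ρ 1)⁻¹ = f := by
  obtain ⟨a, ha, i, hi, rfl, has, his⟩ :=
    KleinCent.exists_fixed_inverted F.fixX_odd F.y_sq (fun _ hd => F.fixX_y hd) hf
  suffices hi1 : i = 1 by rw [hi1, mul_one, has]
  refine F.fixX_trivial hno hi fun g hg => ?_
  have hio := Loc.odd_orderOf F.fixX_odd hi
  have hgo := Loc.odd_orderOf (Loc.core_odd _) hg.1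
  have hy := F.z_comm (F.mem 1 one_facts.1)
  have h1q : (1 : ℕ) ∈ qL := (types_sub.1 1 (final_codes.2.1 1 (by simp))).1
  have h15q : (15 : ℕ) ∈ qL := (types_sub.1 15 (final_codes.2.1 15 (by simp))).1
  set g' := ρ 1 * g * (ρ 1)⁻¹ with hg'
  have hg'I : Inverted ρ (ρ 15) g' := by
    refine ⟨Loc.core_conj_mem hy hg.1, ?_⟩
    rw [hg', F.Q_act h15q h1q hg.1, hg.2]
    group
  have hcomm : g * g' = g' * g := F.inv_comm hno hg hg'I
  have hy' : ρ 1 * g' * (ρ 1)⁻¹ = g := F.y_conj_twice g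
  have hgI' : Inverted ρ (ρ 1) (g * g'⁻¹) := by
    refine ⟨mul_mem hg.1 (inv_mem hg'I.1), ?_⟩
    rw [show ρ 1 * (g * g'⁻¹) * (ρ 1)⁻¹ = g' * (ρ 1 * g' * (ρ 1)⁻¹)⁻¹ by rw [hg']; group, hy', mul_inv_rev, inv_inv]
  have hy1s : (1 : ℕ) ∈ sgL := final_codes.2.1 1 (by simp)
  have h2s : (2 : ℕ) ∈ sgL := final_codes.2.1 2 (by simp)
  have hi' : Inverted ρ (ρ 1) i := ⟨hi.1, his⟩
  have c1 : i * (g * g'⁻¹) = g * g'⁻¹ * i := F.inv_comm_sing hno hy1s hi' hgI'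
  have h2ss := (types_sub.1 2 h2s).2.1
  obtain ⟨hpq, hpr⟩ := final_codes.2.2.1 2 (by simp)
  have hu : ρ 2 = ρ 1 * ρ (mul 1 2) := by
    rw [F.mul_eq 1 one_facts.1 2 h2ss, ← mul_assoc, F.y_sq, one_mul]
  have hiu : Inverted ρ (ρ 2) i := by
    refine ⟨hi.1, ?_⟩
    have hp := F.fixX_centR hno hi (mem_sub_of_mem hpr)
    calc ρ 2 * i * (ρ 2)⁻¹ = ρ 1 * (ρ (mul 1 2) * i) * ((ρ (mul 1 2))⁻¹ * (ρ 1)⁻¹) := by rw [hu]; group
      _ = ρ 1 * i * (ρ 1)⁻¹ := by rw [← hp]; group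
      _ = i⁻¹ := his
  obtain ⟨hpq', hpc, h1515⟩ := final_codes.2.2.2.1
  have h15s := (types_sub.1 15 (final_codes.2.1 15 (by simp))).2.1
  have hgu : Inverted ρ (ρ 2) (g * g') := by
    refine ⟨mul_mem hg.1 hg'I.1, ?_⟩
    have hfix : ρ 1 * (g * g') * (ρ 1)⁻¹ = g * g' := by
      rw [show ρ 1 * (g * g') * (ρ 1)⁻¹ = g' * (ρ 1 * g' * (ρ 1)⁻¹) by rw [hg']; group, hy', hcomm]
    have hp := F.fix_sing hno hy1s hpq' hpc (mul_mem hg.1 hg'I.1) hfix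
    have hu' : ρ 2 = ρ 15 * ρ (mul 15 2) := by
      rw [F.mul_eq 15 h15s 2 h2ss, ← mul_assoc, Involutions.Basic.inv_sq_one F.order_x, one_mul]
    calc ρ 2 * (g * g') * (ρ 2)⁻¹
        = ρ 15 * (ρ (mul 15 2) * (g * g')) * ((ρ (mul 15 2))⁻¹ * (ρ 15)⁻¹) := by rw [hu']; group
      _ = ρ 15 * g * (ρ 15)⁻¹ * (ρ 15 * g' * (ρ 15)⁻¹) := by rw [hp]; group
      _ = (g * g')⁻¹ := by rw [hg.2, hg'I.2, ← mul_inv_rev, hcomm]
  have c2 : i * (g * g') = g * g' * i := F.inv_comm_sing hno h2s hiu hgu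
  have hgg : g * g' * (g * g'⁻¹) = g * g := by
    rw [mul_assoc g g', ← mul_assoc g' g, ← hcomm, mul_assoc g g', mul_inv_cancel, mul_one]
  have c3 : Commute i (g * g' * (g * g'⁻¹)) := Commute.mul_right c2 c1
  rw [hgg] at c3
  exact (Loc.fix_of_sq hgo c3.eq.symm).symm

theorem five_invert {s : ℕ} (hs : s ∈ [1, 2, 4, 8, 15]) {g : G} (hg : Inverted ρ (ρ 15) g) :
    ρ s * g * (ρ s)⁻¹ = g⁻¹ := by
  classical
  have hsg := final_codes.2.1 s hs
  obtain ⟨hsq, hss, -⟩ := types_sub.1 s hsg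
  -- `ρ s` fixes the elements fixed by `x`
  have hfix : ∀ f ∈ fixX ρ, ρ s * f * (ρ s)⁻¹ = f := by
    intro f hf
    by_cases h15 : s = 15
    · subst h15
      rw [← mem_centralizer_singleton_iff.1 hf.2, mul_inv_cancel_right]
    have hs' : s ∈ [1, 2, 4, 8] := by simp at hs ⊢; omega
    obtain ⟨-, hpr⟩ := final_codes.2.2.1 s hs'
    have hp := F.fixX_centR hno hf (mem_sub_of_mem hpr)
    have hu : ρ s = ρ 1 * ρ (mul 1 s) := by
      rw [F.mul_eq 1 one_facts.1 s hss, ← mul_assoc, F.y_sq, one_mul]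
    calc ρ s * f * (ρ s)⁻¹ = ρ 1 * (ρ (mul 1 s) * f) * ((ρ (mul 1 s))⁻¹ * (ρ 1)⁻¹) := by rw [hu]; group
      _ = ρ 1 * f * (ρ 1)⁻¹ := by rw [← hp]; group
      _ = f := F.y_fixes hno hf
  -- and nothing else in the core
  obtain ⟨k, hk, -, hks⟩ := F.exists_to_x hsg
  set C := Loc.core (ρ 16) ⊓ centralizer ({ρ s} : Set G)
  have hle : fixX ρ ≤ C := fun f hf =>
    ⟨hf.1, mem_centralizer_singleton_iff.2 (mul_inv_eq_iff_eq_mul.1 (hfix f hf)).symm⟩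
  have hCle : C.map (MulAut.conj k).toMonoidHom ≤ fixX ρ := by
    rintro _ ⟨c, hc, rfl⟩
    have h1 := Loc.core_conj_mem (mem_centralizer_singleton_iff.1 hk) hc.1
    refine ⟨h1, mem_centralizer_singleton_iff.2 (mul_inv_eq_iff_eq_mul.1 ?_).symm⟩
    show ρ 15 * (k * c * k⁻¹) * (ρ 15)⁻¹ = k * c * k⁻¹
    rw [← F.act_x hks h1, ← mem_centralizer_singleton_iff.1 hc.2, mul_inv_cancel_right]
  have heq : fixX ρ = C := eq_of_le_of_card_ge hle (by
    have := card_le_of_le hCle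
    rwa [card_map_of_injective (MulAut.conj k).injective] at this)
  have hsz := F.z_comm (F.mem s hss)
  set g' := ρ s * g * (ρ s)⁻¹ with hg'
  have h15q : (15 : ℕ) ∈ qL := (types_sub.1 15 (final_codes.2.1 15 (by simp))).1
  have hg'I : Inverted ρ (ρ 15) g' := by
    refine ⟨Loc.core_conj_mem hsz hg.1, ?_⟩
    rw [hg', F.Q_act h15q hsq hg.1, hg.2]
    group
  have hcomm := F.inv_comm hno hg hg'I
  have hss1 : ρ s * ρ s = 1 := (F.sq_one hss).2 (bridge_facts.1 s hsg).1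
  have hs' : ρ s * g' * (ρ s)⁻¹ = g := by
    rw [hg', inv_eq_of_mul_eq_one_right hss1]
    calc ρ s * (ρ s * g * ρ s) * ρ s = ρ s * ρ s * g * (ρ s * ρ s) := by group
      _ = g := by rw [hss1, one_mul, mul_one]
  have hp : g * g' ∈ fixX ρ := by
    rw [heq]
    refine ⟨mul_mem hg.1 hg'I.1, mem_centralizer_singleton_iff.2 (mul_inv_eq_iff_eq_mul.1 ?_).symm⟩
    rw [show ρ s * (g * g') * (ρ s)⁻¹ = g' * (ρ s * g' * (ρ s)⁻¹) by rw [hg']; group, hs', hcomm]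
  have h1 : g * g' = (g * g')⁻¹ := by
    conv_lhs => rw [← mul_inv_cancel_right (g * g') (ρ 15), mem_centralizer_singleton_iff.1 hp.2]
    rw [show ρ 15 * (g * g') * (ρ 15)⁻¹ = ρ 15 * g * (ρ 15)⁻¹ * (ρ 15 * g' * (ρ 15)⁻¹) by group, hg.2, hg'I.2,
      ← mul_inv_rev, hcomm]
  exact (inv_eq_of_mul_eq_one_right (Loc.eq_one_of_eq_inv (Loc.odd_orderOf F.fixX_odd hp) h1)).symm

/-- With two classes of involutions the core of the centralizer of `z` is trivial. -/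
theorem oddCore_bot_two_class : Cfsg.oddCore ↥(centralizer ({ρ 16} : Set G)) = ⊥ := by
  classical
  -- the five singular elements invert, their product is central
  have hinv : ∀ g, Inverted ρ (ρ 15) g → g = 1 := by
    intro g hg
    have hgo := Loc.odd_orderOf (Loc.core_odd _) hg.1
    have h5 : ∀ s ∈ [1, 2, 4, 8, 15], ρ s * g * (ρ s)⁻¹ = g⁻¹ := fun s hs => F.five_invert hno hs hg
    have hsL : ∀ s ∈ [1, 2, 4, 8, 15], s ∈ sL := fun s hs => (types_sub.1 s (final_codes.2.1 s hs)).2.1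
    have e1 := hsL 1 (by simp); have e2 := hsL 2 (by simp); have e4 := hsL 4 (by simp)
    have e8 := hsL 8 (by simp); have e15 := hsL 15 (by simp)
    have e12 := (sL_closed 1 e1).2.2 2 e2
    have e124 := (sL_closed _ e12).2.2 4 e4
    have e1248 := (sL_closed _ e124).2.2 8 e8
    set P := ρ (mul (mul (mul (mul 1 2) 4) 8) 15) with hP
    have hfix : P * g * P⁻¹ = g := by
      rcases List.mem_pair.1 final_codes.2.2.2.2.1 with h | h
      · rw [hP, h, F.zero]; simp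
      · rw [hP, h, F.core_z_comm hg.1, mul_inv_cancel_right]
    have hflip : P * g * P⁻¹ = g⁻¹ := by
      rw [hP, F.mul_eq _ e1248 15 e15, F.mul_eq _ e124 8 e8, F.mul_eq _ e12 4 e4, F.mul_eq 1 e1 2 e2]
      have hneg : ∀ s ∈ [1, 2, 4, 8, 15], ρ s * g⁻¹ * (ρ s)⁻¹ = g := fun s hs => by
        rw [show ρ s * g⁻¹ * (ρ s)⁻¹ = (ρ s * g * (ρ s)⁻¹)⁻¹ by group, h5 s hs, inv_inv]
      calc ρ 1 * ρ 2 * ρ 4 * ρ 8 * ρ 15 * g * (ρ 1 * ρ 2 * ρ 4 * ρ 8 * ρ 15)⁻¹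
          = ρ 1 * (ρ 2 * (ρ 4 * (ρ 8 * (ρ 15 * g * (ρ 15)⁻¹) * (ρ 8)⁻¹) * (ρ 4)⁻¹) * (ρ 2)⁻¹) * (ρ 1)⁻¹ := by group
        _ = g⁻¹ := by
          rw [h5 15 (by simp), hneg 8 (by simp), h5 4 (by simp), hneg 2 (by simp), h5 1 (by simp)]
    exact Loc.eq_one_of_eq_inv hgo (hfix.symm.trans hflip)
  have hbot : Loc.core (ρ 16) = ⊥ := by
    refine (Subgroup.eq_bot_iff_forall _).2 fun g hg => ?_
    have hxz : ρ 15 * ρ 16 = ρ 16 * ρ 15 := F.A_comm (F.Z0_le_A F.x_mem_Z0) (F.Z0_le_A F.z_mem_Z0)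
    obtain ⟨f, hf, i, hi, rfl, hfs, his⟩ := KleinCent.exists_fixed_inverted (Loc.core_odd (ρ 16))
      (Involutions.Basic.inv_sq_one F.order_x) (fun d hd => Loc.core_conj_mem hxz hd) hg
    rw [hinv i ⟨hi, his⟩, mul_one]
    exact F.fixX_trivial hno ⟨hf, mem_centralizer_singleton_iff.2 (mul_inv_eq_iff_eq_mul.1 hfs).symm⟩
      fun k hk => by rw [hinv k hk]; simp
  rwa [core_map_eq (F := F), map_eq_bot_iff_of_injective _ (Subgroup.subtype_injective _)] at hbot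

end Syl

end Cfsg.Agent.J2Type
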