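import Cfsg.Agent.Lib.J2Type.TwoClass.Local
import Cfsg.Agent.Lib.Components.Hyperplane
import Cfsg.Agent.Lib.ZStar.Main

/-!
Two classes of involutions: odd elements in centralizers, the automorphisms of `A` of order three and the
four-groups central modulo the core.
-/

set_option autoImplicit false
set_option linter.style.haveILetI false
set_option linter.unusedSectionVars false
set_option maxHeartbeats 1000000

namespace Cfsg.Agent.J2Type

open Subgroup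
open Cfsg.Agent.J2Uniq (mul inv cj)

universe u

variable {G : Type u} [Group G]

/-- The elements normalizing `A` that fix each coset of `⟨z, x⟩` in it. -/
def cosetStab (ρ : ℕ → G) : Set G :=
  {g | g ∈ normalizer (subA ρ : Set G) ∧ ∀ a ∈ subA ρ, g * a * g⁻¹ * a⁻¹ ∈ subZ ρ}

namespace Syl

variable [Finite G] {S : Sylow 2 G} {ρ : ℕ → G} (F : Syl (S : Subgroup G) ρ) [IsSimpleGroup G]
  (hno : ¬ IsConj (ρ 16) (ρ 416))

include F

/-- An element of odd order centralizing `z` and an element of `A` outside `⟨z, x⟩` lies in the core of `C(z)`. -/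
theorem odd_mem_core_z {a : G} (ha : Out ρ a) {g : G} (hgz : g * ρ 16 = ρ 16 * g) (hga : g * a = a * g)
    (hgo : Odd (orderOf g)) : g ∈ Loc.core (ρ 16) := by
  classical
  haveI : Fact (Nat.Prime 2) := ⟨Nat.prime_two⟩
  have h2 := index_ne_two_of_simple F
  obtain ⟨c, hc, hcz, rfl⟩ := F.exists_code ha
  set C := centralizer ({ρ 16} : Set G)
  set f := QuotientGroup.mk' (Cfsg.oddCore ↥C)
  obtain ⟨S₂, σ, F₂, hσ, hzc, hsub⟩ := F.exists_image f (QuotientGroup.mk'_surjective _)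
    (by rw [QuotientGroup.ker_mk']; exact Cfsg.Agent.Cores.oddCore_odd)
  haveI : (sub σ qL).Normal := hsub ▸ F.hN'
  obtain ⟨h, hh, hh'⟩ := F.exists_y_to_x h2
  obtain ⟨π, hpre, -⟩ := F₂.exists_pre (Cfsg.Agent.Cores.pPrimeCore_quotient_self 2) hzc
    (fusion_image F f hσ ⟨h, mem_centralizer_singleton_iff.1 hh, hh'⟩)
  obtain ⟨hcq, hc0, hcs, hcc⟩ := out_codes c hc hcz
  set x : ↥C := ⟨g, mem_centralizer_singleton_iff.2 hgz⟩
  have hcomm : π (f x) * π (σ c) = π (σ c) * π (f x) := by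
    rw [← map_mul, ← map_mul, hσ c hcs, ← map_mul, ← map_mul]
    exact congrArg π (congrArg f (Subtype.ext hga))
  have hne : π (σ c) ≠ 1 := fun e => by
    obtain ⟨b, hb, hbe⟩ := F₂.mem_Q.1 (hpre.mem.2 e)
    exact hcq (F₂.inj b (qL_facts.1 b hb).1 c hcs hbe ▸ hb)
  have hsq := alt_five_invol _ (by rw [← map_mul, (F₂.sq_one hcs).2 hcc, map_one]) hne _ hcomm
  have ho : Odd (orderOf (f x)) := hgo.of_dvd_nat ((orderOf_map_dvd f x).trans (by rw [Subgroup.orderOf_mk]))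
  have h1 : π (f x) = 1 := by
    refine orderOf_eq_one_iff.1 ?_
    have hd2 : orderOf (π (f x)) ∣ 2 := orderOf_dvd_of_pow_eq_one (by rw [pow_two, hsq])
    exact Nat.eq_one_of_dvd_coprimes (Nat.coprime_two_left.2 ho) hd2 (orderOf_map_dvd π _)
  have h2' : f x = 1 := by
    obtain ⟨b, hb, hbe⟩ := F₂.mem_Q.1 (hpre.mem.2 h1)
    exact Loc.eq_one_of_two_odd S₂.isPGroup' (hbe ▸ F₂.mem b (qL_facts.1 b hb).1) ho
  exact ⟨x, (QuotientGroup.eq_one_iff x).1 h2', rfl⟩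

include hno

/-- An element of `N(A)` permuting the involutions of `⟨z, x⟩` cyclically. -/
theorem exists_cycle : ∃ g ∈ normalizer (subA ρ : Set G), g * ρ 16 * g⁻¹ = ρ 15 ∧ g * ρ 15 * g⁻¹ = ρ 31 := by
  obtain ⟨g, hg, h1⟩ := F.exists_normalizer_conj (a := 15) (zL_in_aL.1 15 zL_facts.2.1.2.2.1) F.z_conj_x
  refine ⟨g, hg, h1, ?_⟩
  rcases F.Z0_cases.1 (F.norm_Z0 hno hg F.x_mem_Z0) with h | h | h | h
  · exact absurd (conj_eq_one_iff.1 h) (Involutions.Basic.ne_one F.order_x)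
  · exact absurd (F.no_swap hno hg F.z_mem_Z0 h1 h).symm F.x_ne_z
  · exact absurd (mul_left_cancel (mul_right_cancel (h.trans h1.symm))) F.x_ne_z
  · exact h

/-- `N(A)` is transitive on the involutions of `⟨z, x⟩`. -/
theorem exists_to_z {t : G} (ht : t ∈ subZ ρ) (ht1 : t ≠ 1) :
    ∃ g ∈ normalizer (subA ρ : Set G), g * t * g⁻¹ = ρ 16 := by
  obtain ⟨g, hg, h1, h2⟩ := F.exists_cycle hno
  rcases F.Z0_cases.1 ht with rfl | rfl | rfl | rfl
  · exact absurd rfl ht1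
  · exact ⟨1, one_mem _, by simp⟩
  · exact ⟨g⁻¹, inv_mem hg, by rw [← h1]; group⟩
  · exact ⟨g⁻¹ * g⁻¹, mul_mem (inv_mem hg) (inv_mem hg), by rw [← h2, ← h1]; group⟩

/-- An element of odd order centralizing an involution `t` of `⟨z, x⟩` and an element of `A` outside it lies
in the core of `C(t)`. -/
theorem odd_mem_core_t {t : G} (ht : t ∈ subZ ρ) (ht1 : t ≠ 1) {a : G} (ha : Out ρ a) {g : G}
    (hgt : g * t = t * g) (hga : g * a = a * g) (hgo : Odd (orderOf g)) : g ∈ Loc.core t := by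
  obtain ⟨h, hh, he⟩ := F.exists_to_z hno ht ht1
  have h1 : h * g * h⁻¹ ∈ Loc.core (ρ 16) := F.odd_mem_core_z (F.norm_out hno hh ha)
    (by rw [← he, show h * g * h⁻¹ * (h * t * h⁻¹) = h * (g * t) * h⁻¹ by group, hgt]; group)
    (by rw [show h * g * h⁻¹ * (h * a * h⁻¹) = h * (g * a) * h⁻¹ by group, hga]; group)
    (by rwa [Involutions.Basic.orderOf_conj])
  have h2 := Loc.core_map (g := h⁻¹) h1
  rwa [inv_inv, show h⁻¹ * (h * g * h⁻¹) * h = g by group, ← he,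
    show h⁻¹ * (h * t * h⁻¹) * h = t by group] at h2

omit hno in
theorem A_elem : Cfsg.IsElementaryAbelian 2 (subA ρ) :=
  ⟨⟨⟨fun a b => Subtype.ext (F.A_comm a.2 b.2)⟩⟩, fun a ha => by rw [pow_two]; exact F.A_sq ha⟩

omit hno in
/-- A subgroup of index 2 of `A` contains an element outside `⟨z, x⟩`. -/
theorem exists_out_hyperplane {H : Subgroup G} (hH : H ≤ subA ρ) (h2 : H.relIndex (subA ρ) = 2) :
    ∃ a ∈ H, Out ρ a := by
  by_contra hcon
  push Not at hcon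
  have hle : H ≤ subZ ρ := fun a ha => by
    by_contra h
    exact hcon a ha ⟨hH ha, h⟩
  have h4 : Nat.card ↥(subZ ρ) ≤ 4 := by
    have hsub : ((subZ ρ : Subgroup G) : Set G) ⊆ ρ '' {a | a ∈ zL} := fun g hg => F.mem_Z0.1 hg
    rw [← SetLike.coe_sort_coe, Nat.card_coe_set_eq]
    refine (Set.ncard_le_ncard hsub ((List.finite_toSet zL).image _)).trans
      ((Set.ncard_image_le (List.finite_toSet zL)).trans ?_)
    rw [show {a | a ∈ zL} = ((zL.toFinset : Finset ℕ) : Set ℕ) by ext; simp, Set.ncard_coe_finset]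
    exact (List.toFinset_card_le _).trans (by simp [zL])
  have hc : Nat.card ↥H * H.relIndex (subA ρ) = 16 := by
    rw [← F.card_A, ← relIndex_bot_left H, ← relIndex_bot_left (subA ρ)]
    exact relIndex_mul_relIndex _ _ _ bot_le hH
  have := card_le_of_le hle
  rw [h2] at hc
  omega

/-- An odd subgroup of the centralizer of `t` normalized by `A` lies in the core of `C(t)`. -/
theorem inv_le_core {t : G} (ht : t ∈ subZ ρ) (ht1 : t ≠ 1) {X : Subgroup G}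
    (hXt : X ≤ centralizer ({t} : Set G)) (hodd : Odd (Nat.card X))
    (hAX : subA ρ ≤ normalizer (X : Set G)) : X ≤ Loc.core t := by
  haveI : Fact (Nat.Prime 2) := ⟨Nat.prime_two⟩
  rw [Components.Hyperplane.eq_iSup_hyperplane F.A_elem (K := X) (by rw [F.card_A]; norm_num)
    (fun h => (Nat.not_even_iff_odd.2 hodd) (even_iff_two_dvd.2 h)) hAX]
  refine iSup_le fun H g hg => ?_
  obtain ⟨a, haH, ha⟩ := F.exists_out_hyperplane H.2.1 H.2.2
  exact F.odd_mem_core_t hno ht ht1 ha (mem_centralizer_singleton_iff.1 (hXt hg.1))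
    (mem_centralizer_iff.1 hg.2 a haH).symm (Loc.odd_orderOf hodd hg.1)

theorem cosetStab_one : (1 : G) ∈ cosetStab ρ := ⟨one_mem _, fun a _ => by simp⟩

theorem cosetStab_mul {g h : G} (hg : g ∈ cosetStab ρ) (hh : h ∈ cosetStab ρ) : g * h ∈ cosetStab ρ := by
  refine ⟨mul_mem hg.1 hh.1, fun a ha => ?_⟩
  have h1 := hh.2 a ha
  have h2 := hg.2 _ ((mem_normalizer_iff.1 hh.1 a).1 ha)
  rw [show g * h * a * (g * h)⁻¹ * a⁻¹ = g * (h * a * h⁻¹) * g⁻¹ * (h * a * h⁻¹)⁻¹ * (h * a * h⁻¹ * a⁻¹) by group]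
  exact (subZ ρ).mul_mem h2 h1

theorem cosetStab_inv {g : G} (hg : g ∈ cosetStab ρ) : g⁻¹ ∈ cosetStab ρ := by
  refine ⟨inv_mem hg.1, fun a ha => ?_⟩
  have ha' : g⁻¹ * a * g ∈ subA ρ := by
    have := (mem_normalizer_iff.1 (inv_mem hg.1) a).1 ha
    rwa [inv_inv] at this
  have h1 := (subZ ρ).inv_mem (hg.2 _ ha')
  rwa [show (g * (g⁻¹ * a * g) * g⁻¹ * (g⁻¹ * a * g)⁻¹)⁻¹ = g⁻¹ * a * g⁻¹⁻¹ * a⁻¹ by group] at h1

/-- The subgroup of elements fixing the cosets. -/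
def stab : Subgroup G where
  carrier := cosetStab ρ
  one_mem' := F.cosetStab_one hno
  mul_mem' := F.cosetStab_mul hno
  inv_mem' := F.cosetStab_inv hno

theorem stab_conj {g k : G} (hg : g ∈ normalizer (subA ρ : Set G)) (hk : k ∈ cosetStab ρ) :
    g * k * g⁻¹ ∈ cosetStab ρ := by
  refine ⟨mul_mem (mul_mem hg hk.1) (inv_mem hg), fun a ha => ?_⟩
  have ha' : g⁻¹ * a * g ∈ subA ρ := by
    have := (mem_normalizer_iff.1 (inv_mem hg) a).1 ha
    rwa [inv_inv] at this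
  have h1 := F.norm_Z0 hno hg (hk.2 _ ha')
  rwa [show g * (k * (g⁻¹ * a * g) * k⁻¹ * (g⁻¹ * a * g)⁻¹) * g⁻¹ = g * k * g⁻¹ * a * (g * k * g⁻¹)⁻¹ * a⁻¹ by
    group] at h1

omit hno in
theorem R_le_stab {r : G} (hr : r ∈ subR ρ) : r ∈ cosetStab ρ := by
  refine ⟨F.R_le_NA hr, fun a ha => ?_⟩
  obtain ⟨c, hc, rfl⟩ := F.mem_A.1 ha
  obtain ⟨q, hq, rfl⟩ := F.mem_R.1 hr
  have hqs := (rL_closed q hq).1
  have hcs := (aL_sub c hc).2.1
  rw [F.A_inv (mem_sub_of_mem hc), ← F.cj_eq hqs hcs, ← F.mul_eq (cj q c) (show cj q c ∈ sL from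
    (sL_closed _ ((sL_closed q hqs).2.2 c hcs)).2.2 _ (sL_closed q hqs).2.1) c hcs]
  exact mem_sub_of_mem (R_coset q hq c hc)

/-- An element of odd order fixing an element outside `⟨z, x⟩` fixes all cosets. -/
theorem odd_coset {v : G} (hv : Out ρ v) {g : G} (hg : g ∈ normalizer (subA ρ : Set G)) (hgv : g * v = v * g)
    (hgo : Odd (orderOf g)) : g ∈ cosetStab ρ := by
  have hgvv : g * v * g⁻¹ = v := by rw [hgv, mul_inv_cancel_right]
  have key : ∀ a ∈ subA ρ, g * a * g⁻¹ * a⁻¹ ∈ subZ ρ ∨ v * (g * a * g⁻¹ * a⁻¹) ∈ subZ ρ := by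
    intro a ha
    by_cases haz : a ∈ subZ ρ
    · exact Or.inl ((subZ ρ).mul_mem (F.norm_Z0 hno hg haz) ((subZ ρ).inv_mem haz))
    by_cases hva : v * a ∈ subZ ρ
    · left
      have h1 := (subZ ρ).mul_mem (F.norm_Z0 hno hg hva) ((subZ ρ).inv_mem hva)
      have hpA : g * a * g⁻¹ * a⁻¹ ∈ subA ρ := mul_mem ((mem_normalizer_iff.1 hg a).1 ha) (inv_mem ha)
      rwa [show g * (v * a) * g⁻¹ * (v * a)⁻¹ = g * v * g⁻¹ * (g * a * g⁻¹ * a⁻¹) * v⁻¹ by group, hgvv,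
        F.A_comm hv.1 hpA, mul_inv_cancel_right] at h1
    obtain ⟨cv, hcv, hcvz, hve⟩ := F.exists_code hv
    obtain ⟨ca, hca, hcaz, hae⟩ := F.exists_code ⟨ha, haz⟩
    obtain ⟨cw, hcw, hwe⟩ := F.mem_A.1 ((mem_normalizer_iff.1 hg a).1 ha)
    have hcvs := (aL_sub cv hcv).2.1
    have hcas := (aL_sub ca hca).2.1
    have hcws := (aL_sub cw hcw).2.1
    have hva' : mul cv ca ∉ zL := fun h => hva (by
      rw [← hve, ← hae, ← F.mul_eq cv hcvs ca hcas]; exact mem_sub_of_mem h)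
    rcases coset_cases cv hcv hcvz ca hca hcaz hva' cw hcw with h | h | h | h
    · exfalso
      have hz : g * a * g⁻¹ ∈ subZ ρ := hwe ▸ mem_sub_of_mem h
      have := F.norm_Z0 hno (inv_mem hg) hz
      rw [show g⁻¹ * (g * a * g⁻¹) * g⁻¹⁻¹ = a by group] at this
      exact haz this
    · exfalso
      have hz : v * (g * a * g⁻¹) ∈ subZ ρ := by
        rw [← hve, ← hwe, ← F.mul_eq cv hcvs cw hcws]; exact mem_sub_of_mem h
      have := F.norm_Z0 hno (inv_mem hg) hz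
      rw [← hgvv, show g⁻¹ * (g * v * g⁻¹ * (g * a * g⁻¹)) * g⁻¹⁻¹ = v * a by group] at this
      exact hva this
    · left
      have hz : a * (g * a * g⁻¹) ∈ subZ ρ := by
        rw [← hwe, ← hae, ← F.mul_eq ca hcas cw hcws]; exact mem_sub_of_mem h
      rwa [F.A_inv ha, ← F.A_comm ha ((mem_normalizer_iff.1 hg a).1 ha)]
    · right
      have hz : v * a * (g * a * g⁻¹) ∈ subZ ρ := by
        rw [← hwe, ← hve, ← hae, ← F.mul_eq cv hcvs ca hcas,
          ← F.mul_eq _ ((sL_closed cv hcvs).2.2 ca hcas) cw hcws]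
        exact mem_sub_of_mem h
      rwa [F.A_inv ha, ← F.A_comm ha ((mem_normalizer_iff.1 hg a).1 ha), ← mul_assoc]
  have h2 : g * g ∈ F.stab hno := by
    refine ⟨mul_mem hg hg, fun a ha => ?_⟩
    have hz : ∀ w ∈ subZ ρ, g * w * g⁻¹ ∈ subZ ρ := fun w hw => F.norm_Z0 hno hg hw
    set p := g * a * g⁻¹ * a⁻¹ with hp
    rw [show g * g * a * (g * g)⁻¹ * a⁻¹ = g * p * g⁻¹ * p by rw [hp]; group]
    rcases key a ha with h | h
    · exact (subZ ρ).mul_mem (hz p h) h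
    · have h1 := (subZ ρ).mul_mem (hz _ h) h
      have hpA : p ∈ subA ρ := mul_mem ((mem_normalizer_iff.1 hg a).1 ha) (inv_mem ha)
      have hgpA : g * p * g⁻¹ ∈ subA ρ := (mem_normalizer_iff.1 hg p).1 hpA
      rwa [show g * (v * p) * g⁻¹ = g * v * g⁻¹ * (g * p * g⁻¹) by group, hgvv,
        F.A_comm hv.1 hgpA, mul_assoc, ← mul_assoc v v p, F.A_sq hv.1, one_mul] at h1
  exact (zpowers_le.2 h2 : zpowers (g * g) ≤ F.stab hno) (Loc.mem_zpowers_sq hgo)

/-- An element of odd order fixing `v`, permuting the involutions of `⟨z, x⟩` cyclically and normalizing both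
elementary subgroups. -/
theorem exists_n {v : G} (hv : Out ρ v) :
    ∃ n, n ∈ normalizer (subA ρ : Set G) ∧ n ∈ normalizer (subB ρ : Set G) ∧ Odd (orderOf n) ∧ n * v = v * n ∧
      n * ρ 16 * n⁻¹ = ρ 15 ∧ n * ρ 15 * n⁻¹ = ρ 31 := by
  classical
  obtain ⟨g0, hg0, h01, -⟩ := F.exists_cycle hno
  have hB : ∀ k ∈ normalizer (subA ρ : Set G), (∀ r ∈ subR ρ, k * r * k⁻¹ ∈ subR ρ) →
      k ∈ normalizer (subB ρ : Set G) := by
    intro k hk hkR
    refine mem_normalizer_of_maps fun b hb => ?_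
    have hle : (subB ρ).map (MulAut.conj k).toMonoidHom ≤ (S : Subgroup G) := by
      rintro _ ⟨b, hb, rfl⟩; exact F.R_le (hkR b (F.B_le_R hb))
    rcases F.sixteen hle (by rw [card_map_of_injective (MulAut.conj k).injective, F.card_B])
      (by rintro _ ⟨b, hb, rfl⟩; rw [← map_mul, F.B_sq hb, map_one]) with e | e
    · exfalso
      have h416 : ρ 416 ∈ subA ρ := mem_sub_of_mem zL_facts.2.2.1.1
      obtain ⟨b, hb, hbe⟩ := e.ge ((mem_normalizer_iff.1 hk _).1 h416)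
      have hbe' : b = ρ 416 := (MulAut.conj k).injective hbe
      rw [hbe'] at hb
      obtain ⟨c, hc, hce⟩ := F.mem_B.1 hb
      exact zL_facts.2.2.1.2.2.1 (F.inj c (bL_sub c hc).2.1 416 (aL_sub 416 zL_facts.2.2.1.1).2.1 hce ▸ hc)
    · exact e.le ⟨b, hb, rfl⟩
  have hfr : ∀ g ∈ normalizer (subA ρ : Set G), ∀ (K : Subgroup G), subR ρ ≤ K →
      K ≤ normalizer (subA ρ : Set G) → (∀ r ∈ subR ρ, g * r * g⁻¹ ∈ K) →
      ∃ k ∈ K, k * g ∈ normalizer (subB ρ : Set G) := by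
    intro g hg K hRK hKA hgR
    obtain ⟨k, hk, hkR⟩ := Loc.exists_conj_into F.R_p hRK
      (fun _ hP hPK => (F.card_le_NA hP (hPK.trans hKA)).trans F.card_R.ge)
      (F.R_p.map (MulAut.conj g).toMonoidHom) (by rintro _ ⟨r, hr, rfl⟩; exact hgR r hr)
    refine ⟨k, hk, hB _ (mul_mem (hKA hk) hg) fun r hr => ?_⟩
    have := hkR _ ⟨r, hr, rfl⟩
    rwa [MulEquiv.coe_toMonoidHom, MulAut.conj_apply,
      show k * (g * r * g⁻¹) * k⁻¹ = k * g * r * (k * g)⁻¹ by group] at this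
  set K1 := normalizer (subA ρ : Set G) ⊓ centZX ρ
  obtain ⟨k0, hk0, hk0B⟩ := hfr g0 hg0 K1 (le_inf F.R_le_NA F.R_le_centZX) inf_le_left fun r hr => by
    set N := normalizer (subA ρ : Set G) with hNdef
    refine ⟨N.mul_mem (N.mul_mem hg0 (F.R_le_NA hr)) (N.inv_mem hg0), ?_⟩
    have hfix : ∀ w ∈ subZ ρ, g0 * r * g0⁻¹ * w = w * (g0 * r * g0⁻¹) := fun w hw => by
      have hw' : g0⁻¹ * w * g0 ∈ subZ ρ := by
        have := F.norm_Z0 hno (inv_mem hg0) hw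
        rwa [inv_inv] at this
      have h1 := mem_centralizer_singleton_iff.1 (F.R_le_centZX hr).1
      have h2 := F.norm_fix hno (F.R_le_NA hr) F.z_mem_Z0 (Involutions.Basic.ne_one F.order_z) h1 hw'
      calc g0 * r * g0⁻¹ * w = g0 * (r * (g0⁻¹ * w * g0)) * g0⁻¹ := by group
        _ = w * (g0 * r * g0⁻¹) := by rw [h2]; group
    exact ⟨mem_centralizer_singleton_iff.2 (hfix _ F.z_mem_Z0), mem_centralizer_singleton_iff.2 (hfix _ F.x_mem_Z0)⟩
  set g2 := k0 * g0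
  have hg2 : g2 ∈ normalizer (subA ρ : Set G) := mul_mem hk0.1 hg0
  have h21 : g2 * ρ 16 * g2⁻¹ = ρ 15 := by
    rw [show g2 * ρ 16 * g2⁻¹ = k0 * (g0 * ρ 16 * g0⁻¹) * k0⁻¹ by simp only [g2]; group, h01,
      mem_centralizer_singleton_iff.1 hk0.2.2, mul_inv_cancel_right]
  set v' := g2 * v * g2⁻¹
  obtain ⟨g, hg, hgz, hgv⟩ := F.trans_out hno (F.norm_out hno hg2 hv) hv
  obtain ⟨k, hk, hkB⟩ := hfr g hg (F.stab hno ⊓ centZX ρ)
    (le_inf (fun r hr => F.R_le_stab hr) F.R_le_centZX) (fun k hk => hk.1.1) fun r hr => by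
      refine ⟨F.stab_conj hno hg (F.R_le_stab hr), ?_⟩
      have hgx := F.norm_fix hno hg F.z_mem_Z0 (Involutions.Basic.ne_one F.order_z) hgz F.x_mem_Z0
      have hgC : g ∈ centZX ρ := ⟨mem_centralizer_singleton_iff.2 hgz, mem_centralizer_singleton_iff.2 hgx⟩
      exact (centZX ρ).mul_mem ((centZX ρ).mul_mem hgC (F.R_le_centZX hr)) ((centZX ρ).inv_mem hgC)
  -- correct inside the coset
  obtain ⟨cv, hcv, hcvz, hve⟩ := F.exists_code hv
  obtain ⟨ct, hct, hte⟩ := F.mem_Z0.1 (hk.1.2 v hv.1)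
  obtain ⟨r, hr, hre⟩ := coset_trans cv hcv hcvz ct hct
  have hcvs := (aL_sub cv hcv).2.1
  have hrs := (rL_closed r hr).1
  have hrR : ρ r ∈ subR ρ := mem_sub_of_mem hr
  have hr' : ρ r * v * (ρ r)⁻¹ = k * v * k⁻¹ := by
    rw [← hve, ← F.cj_eq hrs hcvs, hre, F.mul_eq cv hcvs ct (zL_facts.1 ct hct).1, hte, hve,
      F.A_comm hv.1 (F.Z0_le_A (hk.1.2 v hv.1)), inv_mul_cancel_right]
  set n0 := (ρ r)⁻¹ * (k * g) * g2 with hn0
  have hn0A : n0 ∈ normalizer (subA ρ : Set G) :=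
    mul_mem (mul_mem (inv_mem (F.R_le_NA hrR)) (mul_mem hk.1.1 hg)) hg2
  have hn0B : n0 ∈ normalizer (subB ρ : Set G) :=
    mul_mem (mul_mem (inv_mem (F.R_le_NB hrR)) hkB) hk0B
  have hn0v : n0 * v * n0⁻¹ = v := by
    rw [show n0 * v * n0⁻¹ = (ρ r)⁻¹ * (k * (g * v' * g⁻¹) * k⁻¹) * ρ r by simp only [n0, v']; group, hgv,
      ← hr']
    group
  have hn0z : n0 * ρ 16 * n0⁻¹ = ρ 15 := by
    have hgx := F.norm_fix hno hg F.z_mem_Z0 (Involutions.Basic.ne_one F.order_z) hgz F.x_mem_Z0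
    have hrx : (ρ r)⁻¹ * ρ 15 = ρ 15 * (ρ r)⁻¹ :=
      mem_centralizer_singleton_iff.1 (inv_mem (F.R_le_centZX hrR)).2
    rw [show n0 * ρ 16 * n0⁻¹ = (ρ r)⁻¹ * (k * (g * (g2 * ρ 16 * g2⁻¹) * g⁻¹) * k⁻¹) * ρ r by
      simp only [n0]; group, h21, hgx, mul_inv_cancel_right, mem_centralizer_singleton_iff.1 hk.2.2,
      mul_inv_cancel_right, hrx, inv_mul_cancel_right]
  obtain ⟨a, b, ha, hb, hab, ⟨i, hi⟩, hbo⟩ := Loc.exists_parts n0
  have hzA : zpowers n0 ≤ normalizer (subA ρ : Set G) := zpowers_le.2 hn0A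
  have hact : ∀ w ∈ subZ ρ, b * w * b⁻¹ = n0 * w * n0⁻¹ := fun w hw => by
    rw [← hab, show a * b * w * (a * b)⁻¹ = a * (b * w * b⁻¹) * a⁻¹ by group,
      F.two_fix hno (hzA ha) hi (F.norm_Z0 hno (hzA hb) hw), mul_inv_cancel_right]
  have hb16 : b * ρ 16 * b⁻¹ = ρ 15 := by rw [hact _ F.z_mem_Z0, hn0z]
  refine ⟨b, hzA hb, (zpowers_le.2 hn0B) hb, hbo, mem_centralizer_singleton_iff.1
    ((zpowers_le.2 (mem_centralizer_singleton_iff.2 (mul_inv_eq_iff_eq_mul.1 hn0v))) hb), hb16, ?_⟩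
  rcases F.Z0_cases.1 (F.norm_Z0 hno (hzA hb) F.x_mem_Z0) with h | h | h | h
  · exact absurd (conj_eq_one_iff.1 h) (Involutions.Basic.ne_one F.order_x)
  · exact absurd (F.no_swap hno (hzA hb) F.z_mem_Z0 hb16 h).symm F.x_ne_z
  · exact absurd (mul_left_cancel (mul_right_cancel (h.trans hb16.symm))) F.x_ne_z
  · exact h

/-- The fixed points of such an element are central in the centralizer of `v` modulo its core. -/
theorem exists_D {v : G} (hv : Out ρ v) :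
    ∃ n D, (n ∈ normalizer (subA ρ : Set G) ∧ n ∈ normalizer (subB ρ : Set G) ∧ n * v = v * n ∧
      n * ρ 16 * n⁻¹ = ρ 15 ∧ n * ρ 15 * n⁻¹ = ρ 31) ∧
      D ≤ subA ρ ∧ v ∈ D ∧ (∀ d ∈ D, n * d = d * n) ∧ (∀ d ∈ D, d ∈ subZ ρ → d = 1) ∧
      (∀ a ∈ subA ρ, ∃ t ∈ subZ ρ, a * t ∈ D) ∧
      ∀ d ∈ D, ∀ g : G, g * v = v * g → d * g * d⁻¹ * g⁻¹ ∈ Loc.core v := by
  classical
  haveI : Fact (Nat.Prime 2) := ⟨Nat.prime_two⟩
  obtain ⟨n, hnA, hnB, hno', hnv, hn16, hn15⟩ := F.exists_n hno hv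
  have hn31 : n * ρ 31 * n⁻¹ = ρ 16 := by
    rw [F.code_xz, show n * (ρ 16 * ρ 15) * n⁻¹ = n * ρ 16 * n⁻¹ * (n * ρ 15 * n⁻¹) by group, hn16, hn15,
      F.code_xz, ← mul_assoc, F.A_comm (F.Z0_le_A F.x_mem_Z0) (F.Z0_le_A F.z_mem_Z0), mul_assoc,
      F.A_sq (F.Z0_le_A F.x_mem_Z0), mul_one]
  set D := subA ρ ⊓ centralizer ({n} : Set G)
  refine ⟨n, D, ⟨hnA, hnB, hnv, hn16, hn15⟩, inf_le_left, ⟨hv.1, mem_centralizer_singleton_iff.2 hnv.symm⟩,
    fun d hd => (mem_centralizer_singleton_iff.1 hd.2).symm, ?_, ?_, ?_⟩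
  · intro d hd hdz
    have hdn := mem_centralizer_singleton_iff.1 hd.2
    rcases F.Z0_cases.1 hdz with rfl | rfl | rfl | rfl
    · rfl
    · exact absurd (hn16.symm.trans (by rw [← hdn, mul_inv_cancel_right])) F.x_ne_z
    · exfalso
      have := hn15.symm.trans (show n * ρ 15 * n⁻¹ = ρ 15 by rw [← hdn, mul_inv_cancel_right])
      rw [F.code_xz, mul_eq_right] at this
      exact Involutions.Basic.ne_one F.order_z this
    · exfalso
      have := hn31.symm.trans (show n * ρ 31 * n⁻¹ = ρ 31 by rw [← hdn, mul_inv_cancel_right])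
      rw [F.code_xz, left_eq_mul] at this
      exact Involutions.Basic.ne_one F.order_x this
  · intro a ha
    have hmem : n * a * n⁻¹ * a⁻¹ ∈ subZ ρ := (F.odd_coset hno hv hnA hnv hno').2 a ha
    have hs : ∃ s ∈ subZ ρ, n * s * n⁻¹ = (n * a * n⁻¹ * a⁻¹) * s := by
      have hz := F.Z0_le_A F.z_mem_Z0
      have hx := F.Z0_le_A F.x_mem_Z0
      rcases F.Z0_cases.1 hmem with e | e | e | e
      · exact ⟨1, one_mem _, by rw [e, mul_one, mul_inv_cancel, one_mul]⟩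
      · exact ⟨ρ 15, F.x_mem_Z0, by rw [hn15, e, F.code_xz]⟩
      · exact ⟨ρ 31, F.xz_mem_Z0, by
          rw [hn31, e, F.code_xz, F.A_comm hz hx, ← mul_assoc, F.A_sq hx, one_mul]⟩
      · exact ⟨ρ 16, F.z_mem_Z0, by
          rw [hn16, e, F.code_xz, F.A_comm hz hx, mul_assoc, F.A_sq hz, mul_one]⟩
    obtain ⟨s, hs, hse⟩ := hs
    refine ⟨s, hs, mul_mem ha (F.Z0_le_A hs), mem_centralizer_singleton_iff.2 (mul_inv_eq_iff_eq_mul.1 ?_).symm⟩
    have hp := F.Z0_le_A hmem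
    calc n * (a * s) * n⁻¹ = n * a * n⁻¹ * (n * s * n⁻¹) := by group
      _ = (n * a * n⁻¹ * a⁻¹) * a * ((n * a * n⁻¹ * a⁻¹) * s) := by rw [hse]; group
      _ = a * ((n * a * n⁻¹ * a⁻¹) * (n * a * n⁻¹ * a⁻¹)) * s := by
        rw [F.A_comm hp ha, mul_assoc, ← mul_assoc (n * a * n⁻¹ * a⁻¹) (n * a * n⁻¹ * a⁻¹) s, ← mul_assoc]
      _ = a * s := by rw [F.A_sq hp, mul_one]
  -- fusion in `C(v)` fixes `D`
  intro d hd g hgv
  by_cases hd1 : d = 1
  · subst hd1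
    simp
  have hfix : ∀ h : G, h * v = v * h → h * d * h⁻¹ ∈ subA ρ → h * d * h⁻¹ = d := by
    intro h hhv hhd
    set H := centralizer ({h * d * h⁻¹} : Set G) ⊓ centralizer ({v} : Set G)
    have hhA : (subA ρ).map (MulAut.conj h).toMonoidHom ≤ H := by
      rintro _ ⟨c, hc, rfl⟩
      refine ⟨mem_centralizer_singleton_iff.2 ?_, ?_⟩
      · show h * c * h⁻¹ * (h * d * h⁻¹) = h * d * h⁻¹ * (h * c * h⁻¹)
        rw [show h * c * h⁻¹ * (h * d * h⁻¹) = h * (c * d) * h⁻¹ by group, F.A_comm hc hd.1]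
        group
      · exact (centralizer ({v} : Set G)).mul_mem ((centralizer ({v} : Set G)).mul_mem
          (mem_centralizer_singleton_iff.2 hhv) (F.A_le_cent hv.1 hc))
          ((centralizer ({v} : Set G)).inv_mem (mem_centralizer_singleton_iff.2 hhv))
    obtain ⟨k, hk, hkA⟩ := F.conj_into_A hno hv inf_le_right (le_inf (F.A_le_cent hhd) (F.A_le_cent hv.1))
      (F.A_p.map _) hhA
    set m := k * h
    have hmA : m ∈ normalizer (subA ρ : Set G) := mem_normalizer_of_maps fun c hc => by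
      have := hkA _ ⟨c, hc, rfl⟩
      rwa [MulEquiv.coe_toMonoidHom, MulAut.conj_apply,
        show k * (h * c * h⁻¹) * k⁻¹ = k * h * c * (k * h)⁻¹ by group] at this
    have hmv : m * v = v * m := by
      show k * h * v = v * (k * h)
      rw [mul_assoc, hhv, ← mul_assoc, mem_centralizer_singleton_iff.1 hk.2, mul_assoc]
    have hmd : h * d * h⁻¹ = m * d * m⁻¹ := by
      rw [show m * d * m⁻¹ = k * (h * d * h⁻¹) * k⁻¹ by simp only [m]; group,
        mem_centralizer_singleton_iff.1 hk.1, mul_inv_cancel_right]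
    rw [hmd]
    have hj : ∃ p ∈ zpowers n, p * ρ 16 * p⁻¹ = m * ρ 16 * m⁻¹ := by
      rcases F.Z0_cases.1 (F.norm_Z0 hno hmA F.z_mem_Z0) with e | e | e | e
      · exact absurd (conj_eq_one_iff.1 e) (Involutions.Basic.ne_one F.order_z)
      · exact ⟨1, one_mem _, by rw [e]; simp⟩
      · exact ⟨n, mem_zpowers n, by rw [e, hn16]⟩
      · refine ⟨n * n, mul_mem (mem_zpowers n) (mem_zpowers n), ?_⟩
        rw [e, show n * n * ρ 16 * (n * n)⁻¹ = n * (n * ρ 16 * n⁻¹) * n⁻¹ by group, hn16, hn15]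
    obtain ⟨p, hp, hpe⟩ := hj
    have hpd : p * d = d * p := (mem_centralizer_singleton_iff.1
      ((zpowers_le.2 (mem_centralizer_singleton_iff.2 (mem_centralizer_singleton_iff.1 hd.2).symm)) hp))
    have hpv : p * v = v * p := mem_centralizer_singleton_iff.1
      ((zpowers_le.2 (mem_centralizer_singleton_iff.2 hnv)) hp)
    set u := p⁻¹ * m
    have huA : u ∈ normalizer (subA ρ : Set G) := mul_mem (inv_mem ((zpowers_le.2 hnA) hp)) hmA
    have huv : u * v = v * u := by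
      have h1 : p⁻¹ * v = v * p⁻¹ := (Commute.inv_left hpv).eq
      show p⁻¹ * m * v = v * (p⁻¹ * m)
      rw [mul_assoc, hmv, ← mul_assoc, h1, mul_assoc]
    have hu16 : u * ρ 16 = ρ 16 * u := mul_inv_eq_iff_eq_mul.1 (by
      rw [show u * ρ 16 * u⁻¹ = p⁻¹ * (m * ρ 16 * m⁻¹) * p by simp only [u]; group, ← hpe]; group)
    obtain ⟨a, b, ha, hb, hab, ⟨i, hi⟩, hbo⟩ := Loc.exists_parts u
    have hzu : zpowers u ≤ normalizer (subA ρ : Set G) := zpowers_le.2 huA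
    have hzv : zpowers u ≤ centralizer ({v} : Set G) := zpowers_le.2 (mem_centralizer_singleton_iff.2 huv)
    have hbv := mem_centralizer_singleton_iff.1 (hzv hb)
    have haA := F.two_mem_A hno hv (hzu ha) (mem_centralizer_singleton_iff.1 (hzv ha)) hi
    have hb16 : b * ρ 16 = ρ 16 * b := mem_centralizer_singleton_iff.1
      ((zpowers_le.2 (mem_centralizer_singleton_iff.2 hu16)) hb)
    have hbs : b * d * b⁻¹ * d⁻¹ ∈ subZ ρ := (F.odd_coset hno hv (hzu hb) hbv hbo).2 d hd.1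
    set t := b * d * b⁻¹ * d⁻¹ with ht
    have hbt : b * t = t * b := F.norm_fix hno (hzu hb) F.z_mem_Z0 (Involutions.Basic.ne_one F.order_z) hb16 hbs
    have hbd : b * d = d * b := Loc.fix_of_sq hbo (mul_inv_eq_iff_eq_mul.1 (by
      calc b * b * d * (b * b)⁻¹ = b * (t * d) * b⁻¹ := by rw [ht]; group
        _ = b * t * b⁻¹ * (b * d * b⁻¹) := by group
        _ = t * (t * d) := by rw [hbt, mul_inv_cancel_right, ht]; group
        _ = d := by rw [← mul_assoc, F.A_sq (F.Z0_le_A hbs), one_mul]))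
    have hud : u * d = d * u := by rw [← hab, mul_assoc, hbd, ← mul_assoc, F.A_comm haA hd.1, mul_assoc]
    rw [show m = p * u by simp only [u]; group, show p * u * d * (p * u)⁻¹ = p * (u * d * u⁻¹) * p⁻¹ by group, hud,
      mul_inv_cancel_right, hpd, mul_inv_cancel_right]
  set C := centralizer ({v} : Set G)
  have hdC : d ∈ C := F.A_le_cent hv.1 hd.1
  obtain ⟨P, hP⟩ := (F.A_p.comap_subtype : IsPGroup 2 ((subA ρ).subgroupOf C)).exists_le_sylow
  have hPA : ∀ q : C, q ∈ (P : Subgroup C) → (q : G) ∈ subA ρ := by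
    intro q hq
    have heq : subA ρ = (P : Subgroup C).map C.subtype := eq_of_le_of_card_ge
      (fun s hs => ⟨⟨s, F.A_le_cent hv.1 hs⟩, hP hs, rfl⟩)
      ((F.card_le_cent hno hv (P.isPGroup'.map _) (map_subtype_le _)).trans F.card_A.ge)
    rw [heq]
    exact ⟨q, hq, rfl⟩
  have hiso : Cfsg.IsIsolatedInvolution (⟨d, hdC⟩ : C) := by
    refine (Involutions.Isolated.iff_unique_in_sylow P (by rw [Subgroup.orderOf_mk]; exact F.A_order hd.1 hd1)
      (hP (mem_subgroupOf.2 hd.1))).2 fun h hh => Subtype.ext ?_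
    exact hfix h (mem_centralizer_singleton_iff.1 h.2) (hPA _ hh)
  exact ⟨_, ZStar.Main.commutator_mem_oddCore hiso (⟨g, mem_centralizer_singleton_iff.2 hgv⟩ : C), rfl⟩

end Syl

end Cfsg.Agent.J2Type
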