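import Cfsg.Agent.Lib.J2Type.Bridge
import Cfsg.Agent.Lib.J2Type.Classes
import Cfsg.Agent.Lib.J2Type.CentV
import Cfsg.Agent.Lib.J2Type.Local2

/-!
Two classes of involutions: the normalizer of the elementary subgroup of order 16 and the centralizers of its
involutions outside the centre.
-/

set_option autoImplicit false
set_option linter.style.haveILetI false
set_option linter.unusedSectionVars false
set_option maxHeartbeats 1000000

namespace Cfsg.Agent.J2Type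

open Subgroup
open Cfsg.Agent.J2Uniq (mul inv cj)

universe u

variable {G : Type u} [Group G]

/-- The four-group `⟨z, x⟩`. -/
def subZ (ρ : ℕ → G) : Subgroup G := sub ρ zL

/-- The elements of `A` outside `⟨z, x⟩`. -/
def Out (ρ : ℕ → G) (a : G) : Prop := a ∈ subA ρ ∧ a ∉ subZ ρ

theorem alt_five_invol : ∀ x : alternatingGroup (Fin 5), x * x = 1 → x ≠ 1 →
    ∀ y : alternatingGroup (Fin 5), y * x = x * y → y * y = 1 := by
  decide +kernel

theorem zL_facts : (∀ a ∈ zL, a ∈ sL ∧ inv a = a ∧ mul a a = 0 ∧ cj 1 a ∈ zL ∧ ∀ b ∈ zL, mul a b ∈ zL) ∧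
    (0 ∈ zL ∧ 16 ∈ zL ∧ 15 ∈ zL ∧ 31 ∈ zL) ∧ (416 ∈ aL ∧ 416 ∉ zL ∧ 416 ∉ bL ∧ cj 1 416 ∉ aL) ∧
    (419 ∈ bL ∧ cj 1 419 ∉ bL ∧ cj 1 419 ∈ sL ∧ cj 1 416 ∈ sL) := by decide +kernel

theorem out_codes : ∀ a ∈ aL, a ∉ zL → a ∉ qL ∧ a ≠ 0 ∧ a ∈ sL ∧ mul a a = 0 := by decide +kernel

theorem coset_cases : ∀ v ∈ aL, v ∉ zL → ∀ a ∈ aL, a ∉ zL → mul v a ∉ zL → ∀ w ∈ aL,
    w ∈ zL ∨ mul v w ∈ zL ∨ mul a w ∈ zL ∨ mul (mul v a) w ∈ zL := by decide +kernel

theorem coset_trans : ∀ v ∈ aL, v ∉ zL → ∀ t ∈ zL, ∃ r ∈ rL, cj r v = mul v t := by decide +kernel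

theorem R_coset : ∀ r ∈ rL, ∀ a ∈ aL, mul (cj r a) a ∈ zL := by decide +kernel

theorem mem_normalizer_of_maps [Finite G] {T : Subgroup G} {g : G} (h : ∀ t ∈ T, g * t * g⁻¹ ∈ T) :
    g ∈ normalizer (T : Set G) := by
  have heq : T.map (MulAut.conj g).toMonoidHom = T :=
    eq_of_le_of_card_ge (by rintro _ ⟨t, ht, rfl⟩; exact h t ht)
      (by rw [card_map_of_injective (MulAut.conj _).injective])
  refine mem_normalizer_iff.2 fun t => ⟨h t, fun ht => ?_⟩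
  rw [← heq] at ht
  obtain ⟨t', ht', e1⟩ := ht
  exact (MulAut.conj g).injective e1 ▸ ht'

namespace Syl

variable [Finite G] {S : Sylow 2 G} {ρ : ℕ → G} (F : Syl (S : Subgroup G) ρ)

section Basic

include F

theorem mem_Z0 {g : G} : g ∈ subZ ρ ↔ ∃ a ∈ zL, ρ a = g :=
  F.mem_sub zL_facts.2.1.1 (fun a ha => (zL_facts.1 a ha).1)
    (fun a ha => (zL_facts.1 a ha).2.1.symm ▸ ha) (fun a ha => (zL_facts.1 a ha).2.2.2.2)

theorem Z0_cases {t : G} : t ∈ subZ ρ ↔ t = 1 ∨ t = ρ 16 ∨ t = ρ 15 ∨ t = ρ 31 := by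
  rw [F.mem_Z0]
  constructor
  · rintro ⟨a, ha, rfl⟩
    rcases zL_split a ha with rfl | rfl | rfl | rfl
    exacts [Or.inl F.zero, Or.inr (Or.inl rfl), Or.inr (Or.inr (Or.inl rfl)), Or.inr (Or.inr (Or.inr rfl))]
  · obtain ⟨h0, h16, h15, h31⟩ := zL_facts.2.1
    rintro (rfl | rfl | rfl | rfl)
    exacts [⟨0, h0, F.zero⟩, ⟨16, h16, rfl⟩, ⟨15, h15, rfl⟩, ⟨31, h31, rfl⟩]

theorem z_mem_Z0 : ρ 16 ∈ subZ ρ := mem_sub_of_mem zL_facts.2.1.2.1

theorem x_mem_Z0 : ρ 15 ∈ subZ ρ := mem_sub_of_mem zL_facts.2.1.2.2.1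

theorem xz_mem_Z0 : ρ 31 ∈ subZ ρ := mem_sub_of_mem zL_facts.2.1.2.2.2

theorem Z0_le_A : subZ ρ ≤ subA ρ := fun g hg => by
  obtain ⟨a, ha, rfl⟩ := F.mem_Z0.1 hg
  exact mem_sub_of_mem (zL_in_aL.1 a ha)

theorem A_order {a : G} (ha : a ∈ subA ρ) (h1 : a ≠ 1) : orderOf a = 2 :=
  orderOf_eq_prime (by rw [pow_two, F.A_sq ha]) h1

theorem A_inv {a : G} (ha : a ∈ subA ρ) : a⁻¹ = a := inv_eq_of_mul_eq_one_right (F.A_sq ha)

theorem code_out {a : ℕ} (ha : a ∈ aL) : ρ a ∈ subZ ρ ↔ a ∈ zL := by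
  refine ⟨fun h => ?_, mem_sub_of_mem⟩
  obtain ⟨b, hb, e⟩ := F.mem_Z0.1 h
  exact F.inj b (zL_facts.1 b hb).1 a (aL_sub a ha).2.1 e ▸ hb

theorem exists_code {a : G} (ha : Out ρ a) : ∃ c ∈ aL, c ∉ zL ∧ ρ c = a := by
  obtain ⟨c, hc, rfl⟩ := F.mem_A.1 ha.1
  exact ⟨c, hc, fun h => ha.2 (mem_sub_of_mem h), rfl⟩

theorem out_code {a : ℕ} (ha : a ∈ aL) (hz : a ∉ zL) : Out ρ (ρ a) :=
  ⟨mem_sub_of_mem ha, fun h => hz ((F.code_out ha).1 h)⟩

theorem out_416 : Out ρ (ρ 416) := F.out_code zL_facts.2.2.1.1 zL_facts.2.2.1.2.1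

theorem out_ne {a : G} (ha : Out ρ a) : a ≠ 1 := fun h => ha.2 (h ▸ one_mem _)

theorem out_order {a : G} (ha : Out ρ a) : orderOf a = 2 := F.A_order ha.1 (F.out_ne ha)

theorem out_mul_Z0 {a t : G} (ha : Out ρ a) (ht : t ∈ subZ ρ) : Out ρ (a * t) :=
  ⟨mul_mem ha.1 (F.Z0_le_A ht), fun h => ha.2 (by simpa using mul_mem h (inv_mem ht))⟩

theorem A_le_cent {a : G} (ha : a ∈ subA ρ) : subA ρ ≤ centralizer ({a} : Set G) := fun _ hb =>
  mem_centralizer_singleton_iff.2 (F.A_comm hb ha)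

theorem R_le_NA : subR ρ ≤ normalizer (subA ρ : Set G) := fun _ hr => (F.R_le_normA hr).2

theorem R_le_NB : subR ρ ≤ normalizer (subB ρ : Set G) := fun r hr => by
  refine mem_normalizer_of_maps fun b hb => ?_
  obtain ⟨c, hc, rfl⟩ := F.mem_B.1 hb
  obtain ⟨q, hq, rfl⟩ := F.mem_R.1 hr
  have hqs := (rL_closed q hq).1
  rw [← F.cj_eq hqs (bL_sub c hc).2.1]
  exact mem_sub_of_mem (((by decide +kernel : ∀ q ∈ rL, ∀ c ∈ bL, cj q c ∈ bL)) q hq c hc)

theorem A_p : IsPGroup 2 (subA ρ) := IsPGroup.of_card (n := 4) (by rw [F.card_A]; norm_num)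

theorem R_p : IsPGroup 2 (subR ρ) := IsPGroup.of_card (n := 6) (by rw [F.card_R]; norm_num)

/-- A 2-subgroup normalizing `A` has order at most 64. -/
theorem card_le_NA {P : Subgroup G} (hP : IsPGroup 2 P) (h : P ≤ normalizer (subA ρ : Set G)) :
    Nat.card P ≤ 64 := by
  haveI : Fact (Nat.Prime 2) := ⟨Nat.prime_two⟩
  have hPA : IsPGroup 2 (subA ρ ⊔ P : Subgroup G) := F.A_p.to_sup_of_normal_left' hP h
  obtain ⟨k, hk⟩ := exists_conj_le S hPA
  by_contra hgt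
  have hd := card_dvd_of_le hk
  rw [card_map_of_injective (MulAut.conj k).injective, F.card_eq, show (128 : ℕ) = 2 ^ 7 by norm_num] at hd
  obtain ⟨i, hi, e⟩ := (Nat.dvd_prime_pow Nat.prime_two).1 hd
  have hge : 64 < Nat.card ↥(subA ρ ⊔ P : Subgroup G) :=
    lt_of_lt_of_le (not_le.1 hgt) (card_le_of_le le_sup_right)
  have h7 : i = 7 := by
    rcases Nat.lt_or_ge i 7 with h7 | h7
    · have := Nat.pow_le_pow_right (show 1 ≤ 2 by norm_num) (Nat.lt_succ_iff.1 h7)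
      omega
    · omega
  have heq : (subA ρ ⊔ P).map (MulAut.conj k).toMonoidHom = (S : Subgroup G) := eq_of_le_of_card_ge hk (by
    rw [F.card_eq, card_map_of_injective (MulAut.conj k).injective, e, h7]; norm_num)
  set A' := (subA ρ).map (MulAut.conj k).toMonoidHom
  have hA'n : ∀ s ∈ (S : Subgroup G), ∀ a ∈ A', s * a * s⁻¹ ∈ A' := by
    intro s hs a ha
    rw [← heq] at hs
    obtain ⟨p, hp, rfl⟩ := hs
    obtain ⟨a, ha, rfl⟩ := ha
    refine ⟨p * a * p⁻¹, (mem_normalizer_iff.1 ((sup_le le_normalizer h) hp) a).1 ha, ?_⟩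
    simp [mul_assoc]
  have h1S := F.mem 1 one_facts.1
  rcases F.sixteen (H := A') ((Subgroup.map_mono le_sup_left).trans hk)
    (by rw [card_map_of_injective (MulAut.conj k).injective, F.card_A])
    (by rintro _ ⟨b, hb, rfl⟩; rw [← map_mul, F.A_sq hb, map_one]) with e' | e'
  · have := hA'n _ h1S (ρ 416) (e' ▸ mem_sub_of_mem zL_facts.2.2.1.1)
    rw [← F.cj_eq one_facts.1 (aL_sub 416 zL_facts.2.2.1.1).2.1, e'] at this
    exact zL_facts.2.2.1.2.2.2 ((F.code_A zL_facts.2.2.2.2.2.2).1 this)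
  · have := hA'n _ h1S (ρ 419) (e' ▸ mem_sub_of_mem zL_facts.2.2.2.1)
    rw [← F.cj_eq one_facts.1 (bL_sub 419 zL_facts.2.2.2.1).2.1, e'] at this
    obtain ⟨b, hb, e⟩ := F.mem_B.1 this
    exact zL_facts.2.2.2.2.1 (F.inj b (bL_sub b hb).2.1 _ zL_facts.2.2.2.2.2.1 e ▸ hb)

end Basic

section Two

variable [IsSimpleGroup G] (hno : ¬ IsConj (ρ 16) (ρ 416))

include F

theorem hN' : (((sub ρ qL).subgroupOf (centralizer ({ρ 16} : Set G))).map
    (QuotientGroup.mk' (Cfsg.oddCore ↥(centralizer ({ρ 16} : Set G))))).Normal :=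
  F.Q_normal_mod_core (index_ne_two_of_simple F)

theorem conj_Z0 {t : G} (ht : t ∈ subZ ρ) (h1 : t ≠ 1) : IsConj (ρ 16) t := by
  rcases F.Z0_cases.1 ht with rfl | rfl | rfl | rfl
  · exact absurd rfl h1
  · exact IsConj.refl _
  · exact F.z_conj_x
  · exact F.z_conj_x.trans (isConj_iff.2 ⟨ρ 1, F.one_swap.1⟩)

/-- The elements of `A` outside `⟨z, x⟩` are conjugate in the centralizer of `z`. -/
theorem out_conjZ {a : G} (ha : Out ρ a) : ∃ g ∈ centralizer ({ρ 16} : Set G), g * ρ 416 * g⁻¹ = a := by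
  obtain ⟨c, hc, hcz, rfl⟩ := F.exists_code ha
  obtain ⟨r, hr, hcr⟩ := aL_reps c hc hcz
  obtain ⟨t, ht, e⟩ := ((rep_coset r hr).2.2.2.2.2 c hcr).2.2.2
  obtain ⟨g, hg, hge⟩ := F.reps_conjZ F.hN' (index_ne_two_of_simple F) hr
  have hts := (rL_closed t ht).1
  refine ⟨(ρ t)⁻¹ * g, mul_mem (inv_mem (F.le_centralizer_z (F.mem t hts))) hg, ?_⟩
  rw [show (ρ t)⁻¹ * g * ρ 416 * ((ρ t)⁻¹ * g)⁻¹ = (ρ t)⁻¹ * (g * ρ 416 * g⁻¹) * ρ t by group, hge, ← e,
    F.cj_eq hts (aL_sub c hc).2.1]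
  group

include hno

theorem out_not_conj {a : G} (ha : Out ρ a) : ¬ IsConj (ρ 16) a := fun h => by
  obtain ⟨g, -, hg⟩ := F.out_conjZ ha
  exact hno (h.trans (isConj_iff.2 ⟨g, hg⟩).symm)

theorem mem_Z0_of_conj {a : G} (ha : a ∈ subA ρ) (h : IsConj (ρ 16) a) : a ∈ subZ ρ := by
  by_contra hz
  exact F.out_not_conj hno ⟨ha, hz⟩ h

theorem norm_Z0 {g : G} (hg : g ∈ normalizer (subA ρ : Set G)) {t : G} (ht : t ∈ subZ ρ) :
    g * t * g⁻¹ ∈ subZ ρ := by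
  by_cases h1 : t = 1
  · rw [h1, mul_one, mul_inv_cancel]; exact one_mem _
  exact F.mem_Z0_of_conj hno ((mem_normalizer_iff.1 hg t).1 (F.Z0_le_A ht))
    ((F.conj_Z0 ht h1).trans (isConj_iff.2 ⟨g, rfl⟩))

theorem norm_out {g : G} (hg : g ∈ normalizer (subA ρ : Set G)) {a : G} (ha : Out ρ a) :
    Out ρ (g * a * g⁻¹) := by
  refine ⟨(mem_normalizer_iff.1 hg a).1 ha.1, fun h => ha.2 ?_⟩
  have := F.norm_Z0 hno (inv_mem hg) h
  rwa [show g⁻¹ * (g * a * g⁻¹) * g⁻¹⁻¹ = a by group] at this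

/-- A 2-element normalizing `A` centralizes `⟨z, x⟩`. -/
theorem two_fix {g : G} (hg : g ∈ normalizer (subA ρ : Set G)) {i : ℕ} (hi : orderOf g ∣ 2 ^ i) {t : G}
    (ht : t ∈ subZ ρ) : g * t = t * g := by
  obtain ⟨k, hk, hkR⟩ := Loc.exists_conj_into F.R_p F.R_le_NA
    (fun P hP hPN => (F.card_le_NA hP hPN).trans F.card_R.ge) (Loc.isPGroup_zpowers hi) (zpowers_le.2 hg)
  have hr := F.R_le_centZX (hkR g (mem_zpowers g))
  have hfix : ∀ w ∈ subZ ρ, k * g * k⁻¹ * w = w * (k * g * k⁻¹) := fun w hw => by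
    have h16 := mem_centralizer_singleton_iff.1 hr.1
    have h15 := mem_centralizer_singleton_iff.1 hr.2
    rcases F.Z0_cases.1 hw with rfl | rfl | rfl | rfl
    · simp
    · exact h16
    · exact h15
    · rw [F.code_xz]; exact Commute.mul_right h16 h15
  have h := hfix _ (F.norm_Z0 hno hk ht)
  calc g * t = k⁻¹ * (k * g * k⁻¹ * (k * t * k⁻¹)) * k := by group
    _ = t * g := by rw [h]; group

/-- An element normalizing `A` does not interchange two elements of `⟨z, x⟩`. -/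
theorem no_swap {g : G} (hg : g ∈ normalizer (subA ρ : Set G)) {t t' : G} (ht : t ∈ subZ ρ)
    (h1 : g * t * g⁻¹ = t') (h2 : g * t' * g⁻¹ = t) : t = t' := by
  obtain ⟨a, b, ha, hb, hab, ⟨i, hi⟩, hbo⟩ := Loc.exists_parts g
  have hz : zpowers g ≤ normalizer (subA ρ : Set G) := zpowers_le.2 hg
  have hbt : ∀ w ∈ subZ ρ, b * w * b⁻¹ = g * w * g⁻¹ := fun w hw => by
    rw [← hab, show a * b * w * (a * b)⁻¹ = a * (b * w * b⁻¹) * a⁻¹ by group,
      F.two_fix hno (hz ha) hi (F.norm_Z0 hno (hz hb) hw), mul_inv_cancel_right]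
  have ht' : t' ∈ subZ ρ := h1 ▸ F.norm_Z0 hno hg ht
  have hfix : b * t = t * b := Loc.fix_of_sq hbo (mul_inv_eq_iff_eq_mul.1 (by
    rw [show b * b * t * (b * b)⁻¹ = b * (b * t * b⁻¹) * b⁻¹ by group, hbt t ht, h1, hbt t' ht', h2]))
  rw [← h1, ← hbt t ht, hfix, mul_inv_cancel_right]

/-- An element normalizing `A` and centralizing one involution of `⟨z, x⟩` centralizes it. -/
theorem norm_fix {g : G} (hg : g ∈ normalizer (subA ρ : Set G)) {t : G} (ht : t ∈ subZ ρ) (ht1 : t ≠ 1)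
    (hgt : g * t = t * g) {w : G} (hw : w ∈ subZ ρ) : g * w = w * g := by
  by_cases hw1 : w = 1
  · simp [hw1]
  by_cases hwt : w = t
  · rw [hwt]; exact hgt
  have hgw := F.norm_Z0 hno hg hw
  have hcases : g * w * g⁻¹ = w ∨ g * w * g⁻¹ = w * t := by
    obtain ⟨a, ha, hae⟩ := F.mem_Z0.1 ht
    obtain ⟨b, hb, hbe⟩ := F.mem_Z0.1 hw
    obtain ⟨c, hc, hce⟩ := F.mem_Z0.1 hgw
    have hfour : ∀ a ∈ zL, ∀ b ∈ zL, ∀ c ∈ zL, a ≠ 0 → b ≠ 0 → a ≠ b → c = 0 ∨ c = a ∨ c = b ∨ c = mul b a := by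
      decide +kernel
    rcases hfour a ha b hb c hc (fun e => ht1 (by rw [← hae, e, F.zero])) (fun e => hw1 (by rw [← hbe, e, F.zero]))
      (fun e => hwt (by rw [← hbe, ← hae, e])) with e | e | e | e
    · exact absurd (conj_eq_one_iff.1 (by rw [← hce, e, F.zero])) hw1
    · refine absurd (mul_left_cancel (mul_right_cancel ((show g * w * g⁻¹ = t by rw [← hce, e, hae]).trans ?_))) hwt
      rw [hgt, mul_inv_cancel_right]
    · exact Or.inl (by rw [← hce, e, hbe])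
    · exact Or.inr (by
        rw [← hce, e, F.mul_eq b (zL_facts.1 b hb).1 a (zL_facts.1 a ha).1, hbe, hae])
  rcases hcases with h | h
  · exact mul_inv_eq_iff_eq_mul.1 h
  · have h2 : g * (w * t) * g⁻¹ = w := by
      rw [show g * (w * t) * g⁻¹ = g * w * g⁻¹ * (g * t * g⁻¹) by group, h, hgt, mul_inv_cancel_right, mul_assoc,
        F.A_sq (F.Z0_le_A ht), mul_one]
    exact absurd (mul_eq_left.1 (F.no_swap hno hg hw h h2).symm) ht1

/-- A 2-subgroup of the centralizer of an element of `A` outside `⟨z, x⟩` has order at most 16. -/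
theorem card_le_cent {v : G} (hv : Out ρ v) {P : Subgroup G} (hP : IsPGroup 2 P)
    (hPv : P ≤ centralizer ({v} : Set G)) : Nat.card P ≤ 16 := by
  classical
  haveI : Fact (Nat.Prime 2) := ⟨Nat.prime_two⟩
  have hvp : IsPGroup 2 (zpowers v) := Loc.isPGroup_zpowers (i := 1) (by rw [F.out_order hv]; norm_num)
  have hsup : IsPGroup 2 (zpowers v ⊔ P : Subgroup G) := hvp.to_sup_of_normal_left' hP fun p hp =>
    centralizer_le_normalizer _ (by
      rw [zpowers_eq_closure, centralizer_closure]; exact hPv hp)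
  obtain ⟨k, hk⟩ := exists_conj_le S hsup
  obtain ⟨c, hc, hce⟩ := F.surj _ (hk ⟨v, mem_sup_left (mem_zpowers v), rfl⟩)
  have hce' : ρ c = k * v * k⁻¹ := hce
  have hc2 : mul c c = 0 := (F.sq_one hc).1 (by
    rw [hce', show k * v * k⁻¹ * (k * v * k⁻¹) = k * (v * v) * k⁻¹ by group, F.A_sq hv.1, mul_one, mul_inv_cancel])
  have hnz : ¬ IsConj (ρ 16) (ρ c) := fun h =>
    F.out_not_conj hno hv (h.trans (isConj_iff.2 ⟨k, hce'.symm⟩).symm)
  have hzcl : ∀ a ∈ zL, a ≠ c := by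
    intro a ha e
    subst e
    by_cases h1 : ρ a = 1
    · rw [h1] at hce'
      exact F.out_ne hv (conj_eq_one_iff.1 hce'.symm)
    · exact hnz (F.conj_Z0 (mem_sub_of_mem ha) h1)
  have himg : ∀ p ∈ P, ∃ e ∈ sL, ρ e = k * p * k⁻¹ ∧ mul c e = mul e c := by
    intro p hp
    obtain ⟨e, he, hee⟩ := F.surj _ (hk ⟨p, mem_sup_right hp, rfl⟩)
    have hee' : ρ e = k * p * k⁻¹ := hee
    refine ⟨e, he, hee', (F.comm hc he).1 ?_⟩
    rw [hce', hee', show k * v * k⁻¹ * (k * p * k⁻¹) = k * (v * p) * k⁻¹ by group,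
      ← mem_centralizer_singleton_iff.1 (hPv hp)]
    group
  rw [← card_map_of_injective (f := (MulAut.conj k).toMonoidHom) (MulAut.conj k).injective (K := P)]
  rcases invs_ok c hc hc2 with h | h | ⟨h, hz⟩ | ⟨h, hz⟩
  · exact absurd rfl (hzcl c h)
  · exfalso
    obtain ⟨t, ht, rfl⟩ := yL_orbit c h
    obtain ⟨g, -, hg⟩ := F.exists_y_to_x (index_ne_two_of_simple F)
    have hzy : IsConj (ρ 16) (ρ 1) := by
      rcases hg with e | e
      · exact F.z_conj_x.trans (isConj_iff.2 ⟨g, e⟩).symm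
      · exact (F.conj_Z0 F.xz_mem_Z0 (fun h' => by
          rw [h'] at e
          exact absurd ((F.eq_one one_facts.1).1 (conj_eq_one_iff.1 e)) (by norm_num))).trans
          (isConj_iff.2 ⟨g, e⟩).symm
    exact hnz (hzy.trans (F.conj_cj ht one_facts.1))
  · refine (card_le_of_le (K := subA ρ) ?_).trans F.card_A.le
    rintro _ ⟨p, hp, rfl⟩
    obtain ⟨e, he, hee, hce⟩ := himg p hp
    rw [MulEquiv.coe_toMonoidHom, MulAut.conj_apply, ← hee]
    exact mem_sub_of_mem (cent_aL c h hz e he hce)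
  · refine (card_le_of_le (K := subB ρ) ?_).trans F.card_B.le
    rintro _ ⟨p, hp, rfl⟩
    obtain ⟨e, he, hee, hce⟩ := himg p hp
    rw [MulEquiv.coe_toMonoidHom, MulAut.conj_apply, ← hee]
    exact mem_sub_of_mem (cent_bL c h hz e he hce)

/-- A 2-element centralizing `v` and normalizing `A` lies in `A`. -/
theorem two_mem_A {v : G} (hv : Out ρ v) {a : G} (ha : a ∈ normalizer (subA ρ : Set G)) (hav : a * v = v * a)
    {i : ℕ} (hi : orderOf a ∣ 2 ^ i) : a ∈ subA ρ := by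
  haveI : Fact (Nat.Prime 2) := ⟨Nat.prime_two⟩
  have hp : IsPGroup 2 (subA ρ ⊔ zpowers a : Subgroup G) :=
    F.A_p.to_sup_of_normal_left' (Loc.isPGroup_zpowers hi) (zpowers_le.2 ha)
  have hle := F.card_le_cent hno hv hp (sup_le (F.A_le_cent hv.1)
    (zpowers_le.2 (mem_centralizer_singleton_iff.2 hav)))
  exact (eq_of_le_of_card_ge le_sup_left (by rw [F.card_A]; exact hle)).ge (mem_sup_right (mem_zpowers a))

/-- Burnside's argument in a subgroup of the centralizer of `v`. -/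
theorem conj_into_A {v : G} (hv : Out ρ v) {H : Subgroup G} (hH : H ≤ centralizer ({v} : Set G))
    (hAH : subA ρ ≤ H) {P : Subgroup G} (hP : IsPGroup 2 P) (hPH : P ≤ H) :
    ∃ k ∈ H, ∀ p ∈ P, k * p * k⁻¹ ∈ subA ρ :=
  Loc.exists_conj_into F.A_p hAH
    (fun _ hQ hQH => (F.card_le_cent hno hv hQ (hQH.trans hH)).trans F.card_A.ge) hP hPH

/-- Two elements of `A` outside `⟨z, x⟩` are conjugate in `N(A) ∩ C(z)`. -/
theorem trans_out {a b : G} (ha : Out ρ a) (hb : Out ρ b) :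
    ∃ g ∈ normalizer (subA ρ : Set G), g * ρ 16 = ρ 16 * g ∧ g * a * g⁻¹ = b := by
  obtain ⟨g1, hg1, h1⟩ := F.out_conjZ ha
  obtain ⟨g2, hg2, h2⟩ := F.out_conjZ hb
  set g := g2 * g1⁻¹ with hg
  have hgz : g ∈ centralizer ({ρ 16} : Set G) := mul_mem hg2 (inv_mem hg1)
  have hgab : g * a * g⁻¹ = b := by rw [hg, ← h1, ← h2]; group
  set H := centralizer ({b} : Set G) ⊓ centralizer ({ρ 16} : Set G)
  have hAH : subA ρ ≤ H := le_inf (F.A_le_cent hb.1) (F.A_le_cent (F.Z0_le_A F.z_mem_Z0))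
  have hgA : (subA ρ).map (MulAut.conj g).toMonoidHom ≤ H := by
    rintro _ ⟨c, hc, rfl⟩
    refine ⟨mem_centralizer_singleton_iff.2 ?_, ?_⟩
    · show g * c * g⁻¹ * b = b * (g * c * g⁻¹)
      rw [← hgab, show g * c * g⁻¹ * (g * a * g⁻¹) = g * (c * a) * g⁻¹ by group, F.A_comm hc ha.1]
      group
    · exact (centralizer ({ρ 16} : Set G)).mul_mem ((centralizer ({ρ 16} : Set G)).mul_mem hgz
        (F.A_le_cent (F.Z0_le_A F.z_mem_Z0) hc)) ((centralizer ({ρ 16} : Set G)).inv_mem hgz)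
  obtain ⟨k, hk, hkA⟩ := F.conj_into_A hno hb inf_le_left hAH (F.A_p.map _) hgA
  refine ⟨k * g, mem_normalizer_of_maps fun c hc => ?_,
    mem_centralizer_singleton_iff.1 (mul_mem hk.2 hgz), ?_⟩
  · have := hkA _ ⟨c, hc, rfl⟩
    rwa [MulEquiv.coe_toMonoidHom, MulAut.conj_apply,
      show k * (g * c * g⁻¹) * k⁻¹ = k * g * c * (k * g)⁻¹ by group] at this
  · rw [show k * g * a * (k * g)⁻¹ = k * (g * a * g⁻¹) * k⁻¹ by group, hgab,
      mem_centralizer_singleton_iff.1 hk.1, mul_inv_cancel_right]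

end Two

end Syl

end Cfsg.Agent.J2Type
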