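import Cfsg.Agent.Lib.J2Type.TwoClass.Signal

/-!
Two classes of involutions: the join over the hyperplanes is trivial.
-/

set_option autoImplicit false
set_option linter.style.haveILetI false
set_option linter.unusedSectionVars false
set_option maxHeartbeats 1000000

namespace Cfsg.Agent.J2Type

open Subgroup
open Cfsg.Agent.J2Uniq (mul inv cj)

universe u

variable {G : Type u} [Group G] [Finite G]

theorem y_codes : (∀ a ∈ sL, a ∈ rL ∨ mul 1 a ∈ rL) ∧ mul 1 1 = 0 ∧ (∀ a ∈ aL, cj 1 a ∈ bL) ∧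
    (∀ a ∈ zL, a ∈ qL) ∧ (∀ a ∈ yL, a ∈ qL) ∧ (∀ a ∈ bL, a ∉ zL → cj 1 a ∈ aL ∧ cj 1 a ∉ zL) := by
  decide +kernel

namespace Syl

variable {S : Sylow 2 G} {ρ : ℕ → G} (F : Syl (S : Subgroup G) ρ)

include F

theorem y_sq : ρ 1 * ρ 1 = 1 := (F.sq_one one_facts.1).2 y_codes.2.1

theorem y_inv : (ρ 1)⁻¹ = ρ 1 := inv_eq_of_mul_eq_one_right F.y_sq

theorem y_conj_twice (g : G) : ρ 1 * (ρ 1 * g * (ρ 1)⁻¹) * (ρ 1)⁻¹ = g := by
  rw [F.y_inv]
  calc ρ 1 * (ρ 1 * g * ρ 1) * ρ 1 = ρ 1 * ρ 1 * g * (ρ 1 * ρ 1) := by group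
    _ = g := by rw [F.y_sq, one_mul, mul_one]

theorem y_conj_A {a : G} (ha : a ∈ subA ρ) : ρ 1 * a * (ρ 1)⁻¹ ∈ subB ρ := by
  obtain ⟨c, hc, rfl⟩ := F.mem_A.1 ha
  rw [← F.cj_eq one_facts.1 (aL_sub c hc).2.1]
  exact mem_sub_of_mem (y_codes.2.2.1 c hc)

theorem y_conj_Z0 {t : G} (ht : t ∈ subZ ρ) : ρ 1 * t * (ρ 1)⁻¹ ∈ subZ ρ := by
  obtain ⟨c, hc, rfl⟩ := F.mem_Z0.1 ht
  rw [← F.cj_eq one_facts.1 (zL_facts.1 c hc).1]
  exact mem_sub_of_mem (zL_facts.1 c hc).2.2.2.1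

theorem card_Z0 : Nat.card (subZ ρ) = 4 := by
  rw [show subZ ρ = sub ρ zL from rfl, F.card_sub zL_facts.2.1.1 (fun a ha => (zL_facts.1 a ha).1)
    (fun a ha => (zL_facts.1 a ha).2.1.symm ▸ ha) (fun a ha => (zL_facts.1 a ha).2.2.2.2) (by decide +kernel)]
  rfl

theorem card_hyperplane_A {H : Subgroup G} (hH : H ≤ subA ρ) (h2 : H.relIndex (subA ρ) = 2) : Nat.card H = 8 := by
  have h := relIndex_mul_relIndex (⊥ : Subgroup G) H (subA ρ) bot_le hH
  rw [relIndex_bot_left, relIndex_bot_left, h2, F.card_A] at h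
  omega

theorem core_A_inv {a : G} (ha : a ∈ subA ρ) : subA ρ ≤ normalizer (Loc.core a : Set G) :=
  fun _ hb => Loc.core_normalizer (F.A_comm hb ha)

theorem inf_cent_inv {X H : Subgroup G} (hX : subA ρ ≤ normalizer (X : Set G)) (hH : H ≤ subA ρ) :
    subA ρ ≤ normalizer ((X ⊓ centralizer (H : Set G) : Subgroup G) : Set G) := by
  have hAC : subA ρ ≤ centralizer (H : Set G) := fun a ha => mem_centralizer_iff.2 fun e he => F.A_comm (hH he) ha
  exact (le_inf hX (hAC.trans le_normalizer)).trans inf_normalizer_le_normalizer_inf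

variable [IsSimpleGroup G] (hno : ¬ IsConj (ρ 16) (ρ 416))

theorem meet_Z0 {H : Subgroup G} (hH : H ≤ subA ρ) (h8 : 8 ≤ Nat.card H) : ∃ t ∈ subZ ρ, t ∈ H ∧ t ≠ 1 := by
  by_contra hcon
  push Not at hcon
  have h := (F.card_mul_of_disjoint hH F.Z0_le_A fun d hd hdH => hcon d hd hdH).1
  rw [F.card_Z0] at h
  omega

include hno

/-- The part of an invariant odd subgroup centralized by `H` lies in the core of `C(e)` for `e` in `H ∩ ⟨z, x⟩`. -/
theorem cent_part_le {X H : Subgroup G} (hodd : Odd (Nat.card X)) (hinv : subA ρ ≤ normalizer (X : Set G))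
    (hH : H ≤ subA ρ) {e : G} (he : e ∈ H) (hez : e ∈ subZ ρ) (he1 : e ≠ 1) :
    X ⊓ centralizer (H : Set G) ≤ Loc.core e :=
  F.inv_le_core hno hez he1
    (fun _ hy => mem_centralizer_singleton_iff.2 (mem_centralizer_iff.1 hy.2 e he).symm)
    (hodd.of_dvd_nat (card_dvd_of_le inf_le_left)) (F.inf_cent_inv hinv hH)

theorem core_le_M {a : G} (ha : a ∈ subA ρ) : Loc.core a ≤ normalizer (wHyp ρ : Set G) :=
  F.inv_le_normalizer hno (Loc.core_odd a) (F.core_A_inv ha)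

/-- Balance passes along conjugation in `N(A)`. -/
theorem bal_conj {v g : G} (hg : g ∈ normalizer (subA ρ : Set G)) (h : Bal ρ v) : Bal ρ (g * v * g⁻¹) := by
  intro t ht ht1 x hxv hxt hxo
  have hgi := inv_mem hg
  have ht' := F.norm_Z0 hno hgi ht
  rw [inv_inv] at ht'
  have h1 : g⁻¹ * t * g ≠ 1 := fun e => ht1 (by rw [show t = g * (g⁻¹ * t * g) * g⁻¹ by group, e]; group)
  have h2 := h _ ht' h1 (g⁻¹ * x * g)
    (by calc g⁻¹ * x * g * v = g⁻¹ * (x * (g * v * g⁻¹)) * g := by group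
          _ = g⁻¹ * (g * v * g⁻¹ * x) * g := by rw [hxv]
          _ = _ := by group)
    (by calc g⁻¹ * x * g * (g⁻¹ * t * g) = g⁻¹ * (x * t) * g := by group
          _ = g⁻¹ * (t * x) * g := by rw [hxt]
          _ = _ := by group)
    (by
      have := Involutions.Basic.orderOf_conj g⁻¹ x
      rw [inv_inv] at this
      rwa [this])
  have h3 := Loc.core_map (g := g) h2
  rwa [show g * (g⁻¹ * x * g) * g⁻¹ = x by group] at h3

theorem bal_all {v : G} (hv : Out ρ v) (h : Bal ρ v) {w : G} (hw : Out ρ w) : Bal ρ w := by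
  obtain ⟨g, hg, -, rfl⟩ := F.trans_out hno hv hw
  exact F.bal_conj hno hg h

/-- With balanced cores the join is generated by the cores over `⟨z, x⟩`. -/
theorem wHyp_eq_Z0 (hbal : ∀ v, Out ρ v → Bal ρ v) :
    wHyp ρ = ⨆ t : {t : G // t ∈ subZ ρ ∧ t ≠ 1}, Loc.core (t : G) := by
  haveI : Fact (Nat.Prime 2) := ⟨Nat.prime_two⟩
  refine le_antisymm (iSup_le fun H => ?_) (iSup_le fun t => ?_)
  · have h8 := F.card_hyperplane_A H.2.1 H.2.2
    have hodd := F.dlt_odd (E := H) (by omega)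
    have hinv := F.A_normalizes_dlt H.2.1
    rw [Components.Hyperplane.eq_iSup_hyperplane (Components.Hyperplane.isElementaryAbelian_of_le F.A_elem F.Z0_le_A)
      (K := dlt (H : Subgroup G)) (le_of_eq (by rw [F.card_Z0]; norm_num)) (fun h => Nat.not_even_iff_odd.2 hodd (even_iff_two_dvd.2 h)) (F.Z0_le_A.trans hinv)]
    refine iSup_le fun K => ?_
    haveI : Nontrivial ↥(K : Subgroup G) := by
      refine Finite.one_lt_card_iff_nontrivial.1 ?_
      have h := relIndex_mul_relIndex (⊥ : Subgroup G) K (subZ ρ) bot_le K.2.1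
      rw [relIndex_bot_left, relIndex_bot_left, K.2.2] at h
      have := F.card_Z0
      omega
    obtain ⟨⟨t, ht⟩, ht1⟩ := exists_ne (1 : ↥(K : Subgroup G))
    have ht1' : t ≠ 1 := fun h => ht1 (Subtype.ext h)
    refine le_iSup_of_le ⟨t, K.2.1 ht, ht1'⟩ (F.inv_le_core hno (K.2.1 ht) ht1'
      (fun x hx => mem_centralizer_singleton_iff.2 (mem_centralizer_iff.1 hx.2 t ht).symm)
      (hodd.of_dvd_nat (card_dvd_of_le inf_le_left)) (F.inf_cent_inv hinv (K.2.1.trans F.Z0_le_A)))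
  · have hodd := Loc.core_odd (t : G)
    have hinv := F.core_A_inv (F.Z0_le_A t.2.1)
    rw [Components.Hyperplane.eq_iSup_hyperplane F.A_elem (K := Loc.core (t : G)) (by rw [F.card_A]; norm_num)
      (fun h => Nat.not_even_iff_odd.2 hodd (even_iff_two_dvd.2 h)) hinv]
    refine iSup_le fun H => le_iSup_of_le H fun x hx => mem_dlt.2 fun e he he1 => ?_
    by_cases hez : e ∈ subZ ρ
    · exact F.cent_part_le hno hodd hinv H.2.1 he hez he1 hx
    · exact hbal e ⟨H.2.1 he, hez⟩ _ t.2.1 t.2.2 x (mem_centralizer_iff.1 hx.2 e he).symm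
        (mem_centralizer_singleton_iff.1 (Loc.core_le _ hx.1)) (Loc.odd_orderOf hodd hx.1)

omit hno in
/-- An element of `C(v)` is corrected by the core to centralize an element of `D`. -/
theorem lift_D {v n : G} {D : Subgroup G} (hv : Out ρ v) (hD : Central ρ v n D) {d : G} (hd : d ∈ D) (hd1 : d ≠ 1)
    {c : G} (hc : c * v = v * c) : ∃ o ∈ Loc.core v, (o * c) * d = d * (o * c) := by
  have hdA := hD.le hd
  have hd2 := F.A_order hdA hd1
  have h := (Loc.core v).inv_mem (hD.central d hd c hc)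
  rw [show (d * c * d⁻¹ * c⁻¹)⁻¹ = c * d * c⁻¹ * d⁻¹ by group, F.A_inv hdA] at h
  obtain ⟨o, ho, hoe⟩ := Involutions.Basic.exists_conj_of_odd
    (x := c * d * c⁻¹) (y := d) (by rw [Involutions.Basic.orderOf_conj, hd2]) hd2
    (Loc.odd_orderOf (Loc.core_odd v) h)
  exact ⟨o, zpowers_le.2 h ho, mul_inv_eq_iff_eq_mul.1 (by
    rw [show o * c * d * (o * c)⁻¹ = o * (c * d * c⁻¹) * o⁻¹ by group, hoe])⟩

/-- With balanced cores the centralizer of `v` normalizes the join. -/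
theorem bal_cent_le (hbal : ∀ v, Out ρ v → Bal ρ v) {v : G} (hv : Out ρ v) :
    centralizer ({v} : Set G) ≤ normalizer (wHyp ρ : Set G) := by
  classical
  haveI : Fact (Nat.Prime 2) := ⟨Nat.prime_two⟩
  obtain ⟨n, D, hD⟩ := F.exists_central hno hv
  have hD4 := F.card_le_D hno hD
  set W := ⨆ d : {d : G // d ∈ D ∧ d ≠ 1}, Loc.core (d : G)
  have h1 : W ≤ wHyp ρ := iSup_le fun d => by
    have hdA := hD.le d.2.1
    have hodd := Loc.core_odd (d : G)
    have hinv := F.core_A_inv hdA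
    rw [Components.Hyperplane.eq_iSup_hyperplane F.A_elem (K := Loc.core (d : G)) (by rw [F.card_A]; norm_num)
      (fun h => Nat.not_even_iff_odd.2 hodd (even_iff_two_dvd.2 h)) hinv]
    refine iSup_le fun H => le_iSup_of_le H fun x hx => mem_dlt.2 fun e he he1 => ?_
    obtain ⟨t, ht, htH, ht1⟩ := F.meet_Z0 H.2.1 (F.card_hyperplane_A H.2.1 H.2.2).ge
    by_cases hez : e ∈ subZ ρ
    · exact F.cent_part_le hno hodd hinv H.2.1 he hez he1 hx
    · exact hbal e ⟨H.2.1 he, hez⟩ _ ht ht1 x (mem_centralizer_iff.1 hx.2 e he).symm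
        (mem_centralizer_iff.1 hx.2 t htH).symm (Loc.odd_orderOf hodd hx.1)
  have h2 : wHyp ρ ≤ W := iSup_le fun H => by
    have h8 := F.card_hyperplane_A H.2.1 H.2.2
    have hodd := F.dlt_odd (E := H) (by omega)
    rw [Components.Hyperplane.eq_iSup_hyperplane (Components.Hyperplane.isElementaryAbelian_of_le F.A_elem hD.le)
      (K := dlt (H : Subgroup G)) hD4 (fun h => Nat.not_even_iff_odd.2 hodd (even_iff_two_dvd.2 h))
      (hD.le.trans (F.A_normalizes_dlt H.2.1))]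
    refine iSup_le fun K x hx => ?_
    haveI : Nontrivial ↥(K : Subgroup G) := by
      refine Finite.one_lt_card_iff_nontrivial.1 ?_
      have h := relIndex_mul_relIndex (⊥ : Subgroup G) K D bot_le K.2.1
      rw [relIndex_bot_left, relIndex_bot_left, K.2.2] at h
      omega
    obtain ⟨⟨d, hd⟩, hd1⟩ := exists_ne (1 : ↥(K : Subgroup G))
    have hd1' : d ≠ 1 := fun h => hd1 (Subtype.ext h)
    obtain ⟨t, ht, htH, ht1⟩ := F.meet_Z0 H.2.1 h8.ge
    exact mem_iSup_of_mem (⟨d, K.2.1 hd, hd1'⟩ : {d : G // d ∈ D ∧ d ≠ 1})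
      (hbal d (F.D_out hno hv hD (K.2.1 hd) hd1') t ht ht1 x (mem_centralizer_iff.1 hx.2 d hd).symm
        (mem_centralizer_iff.1 (dlt_le_cent _ hx.1) t htH).symm (Loc.odd_orderOf hodd hx.1))
  intro g hg
  refine conj_mem_normalizer fun x hx => ?_
  have hle : W ≤ (wHyp ρ).comap (MulAut.conj g).toMonoidHom := iSup_le fun d y hy => by
    obtain ⟨o, ho, hog⟩ := F.lift_D hv hD d.2.1 d.2.2 (mem_centralizer_singleton_iff.1 hg)
    have hy' : o * g * y * (o * g)⁻¹ ∈ wHyp ρ :=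
      h1 (mem_iSup_of_mem (S := fun d : {d : G // d ∈ D ∧ d ≠ 1} => Loc.core (d : G)) d (Loc.core_conj_mem hog hy))
    have := (mem_normalizer_iff.1 ((normalizer (wHyp ρ : Set G)).inv_mem (F.core_le_M hno hv.1 ho)) _).1 hy'
    rwa [show o⁻¹ * (o * g * y * (o * g)⁻¹) * o⁻¹⁻¹ = g * y * g⁻¹ by group] at this
  exact hle (h2 hx)

/-- The second conjugate of the join normalizes it, and the centralizers of the involutions outside
`⟨z, x⟩` too. -/
theorem cent_and_y : (∀ v, Out ρ v → centralizer ({v} : Set G) ≤ normalizer (wHyp ρ : Set G)) ∧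
    ρ 1 ∈ normalizer (wHyp ρ : Set G) := by
  classical
  haveI : Fact (Nat.Prime 2) := ⟨Nat.prime_two⟩
  by_cases hex : ∃ v, Out ρ v ∧ Bal ρ v
  · obtain ⟨v, hv, hvb⟩ := hex
    have hbal : ∀ w, Out ρ w → Bal ρ w := fun w hw => F.bal_all hno hv hvb hw
    refine ⟨fun w hw => F.bal_cent_le hno hbal hw, conj_mem_normalizer fun x hx => ?_⟩
    rw [F.wHyp_eq_Z0 hno hbal] at hx ⊢
    have hle : (⨆ t : {t : G // t ∈ subZ ρ ∧ t ≠ 1}, Loc.core (t : G)) ≤
        (⨆ t : {t : G // t ∈ subZ ρ ∧ t ≠ 1}, Loc.core (t : G)).comap (MulAut.conj (ρ 1)).toMonoidHom :=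
      iSup_le fun t y hy => mem_iSup_of_mem
        (⟨ρ 1 * t * (ρ 1)⁻¹, F.y_conj_Z0 t.2.1, fun e => t.2.2 (conj_eq_one_iff.1 e)⟩ :
          {t : G // t ∈ subZ ρ ∧ t ≠ 1}) (Loc.core_map hy)
    exact hle hx
  push Not at hex
  set M := normalizer (wHyp ρ : Set G) with hM
  have hNA : normalizer (subA ρ : Set G) ≤ M := F.normalizer_le_wHyp
  have hAM : subA ρ ≤ M := le_normalizer.trans hNA
  have hcent : ∀ v, Out ρ v → centralizer ({v} : Set G) ≤ M := fun v hv => by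
    obtain ⟨n, D, hD⟩ := F.exists_central hno hv
    exact (F.cent_le_or_bal hno hv hD M hAM (F.core_le_M hno hv.1) (hNA hD.nA)
      fun t ht _ => F.core_le_M hno (F.Z0_le_A ht)).resolve_right (hex v hv)
  refine ⟨hcent, ?_⟩
  set M' := M.comap (MulAut.conj (ρ 1)).toMonoidHom with hM'
  have hmem : ∀ g, g ∈ M' ↔ ρ 1 * g * (ρ 1)⁻¹ ∈ M := fun g => Iff.rfl
  have hA' : subA ρ ≤ M' := fun a ha => (hmem a).2 (hNA (F.R_le_NA (F.B_le_R (F.y_conj_A ha))))
  have hOt' : ∀ t ∈ subZ ρ, t ≠ 1 → Loc.core t ≤ M' := fun t ht _ x hx =>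
    (hmem x).2 (F.core_le_M hno (F.Z0_le_A (F.y_conj_Z0 ht)) (Loc.core_map hx))
  have hcent' : ∀ a, Out ρ a → centralizer ({a} : Set G) ≤ M' := fun a ha => by
    obtain ⟨n, D, hD⟩ := F.exists_central hno ha
    have hOa : Loc.core a ≤ M' := by
      have hodd := Loc.core_odd a
      rw [Components.Hyperplane.eq_iSup_hyperplane F.A_elem (K := Loc.core a) (by rw [F.card_A]; norm_num)
        (fun h => Nat.not_even_iff_odd.2 hodd (even_iff_two_dvd.2 h)) (F.core_A_inv ha.1)]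
      refine iSup_le fun H x hx => ?_
      obtain ⟨t, ht, htH, ht1⟩ := F.meet_Z0 H.2.1 (F.card_hyperplane_A H.2.1 H.2.2).ge
      exact hOt' t ht ht1 (F.odd_mem_core_t hno ht ht1 ha (mem_centralizer_iff.1 hx.2 t htH).symm
        (mem_centralizer_singleton_iff.1 (Loc.core_le a hx.1)) (Loc.odd_orderOf hodd hx.1))
    have hn' : n ∈ M' := (hmem n).2 (hNA (mem_normalizer_of_maps fun c hc => by
      have h1 := (mem_normalizer_iff.1 hD.nB _).1 (F.y_conj_A hc)
      have h2 := F.one_conj_B h1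
      rw [show ρ 1 * (n * (ρ 1 * c * (ρ 1)⁻¹) * n⁻¹) * (ρ 1)⁻¹ =
          ρ 1 * n * (ρ 1) * c * (ρ 1 * n * (ρ 1))⁻¹ by group] at h2
      rw [F.y_inv]
      exact h2))
    exact (F.cent_le_or_bal hno ha hD M' hA' hOa hn' hOt').resolve_right (hex a ha)
  -- the conjugate join lies in the join
  set W' := (wHyp ρ).comap (MulAut.conj (ρ 1)).toMonoidHom with hW'
  have hW'mem : ∀ g, g ∈ W' ↔ ρ 1 * g * (ρ 1)⁻¹ ∈ wHyp ρ := fun g => Iff.rfl
  have hW'eq : W' = (wHyp ρ).map (MulAut.conj (ρ 1)).toMonoidHom := by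
    ext g
    refine ⟨fun hg => ⟨_, hg, F.y_conj_twice g⟩, ?_⟩
    rintro ⟨w, hw, rfl⟩
    exact (hW'mem _).2 (by rw [MulEquiv.coe_toMonoidHom, MulAut.conj_apply, F.y_conj_twice]; exact hw)
  have hodd : Odd (Nat.card W') := by
    rw [hW'eq, card_map_of_injective (MulAut.conj _).injective]
    exact F.wHyp_odd hno
  have hnorm : ∀ g, g ∈ M' → ∀ x ∈ W', g * x * g⁻¹ ∈ W' := fun g hg x hx => by
    have := (mem_normalizer_iff.1 ((hmem g).1 hg) _).1 ((hW'mem x).1 hx)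
    rw [hW'mem]
    rwa [show ρ 1 * g * (ρ 1)⁻¹ * (ρ 1 * x * (ρ 1)⁻¹) * (ρ 1 * g * (ρ 1)⁻¹)⁻¹ =
      ρ 1 * (g * x * g⁻¹) * (ρ 1)⁻¹ by group] at this
  have hAW : subA ρ ≤ normalizer (W' : Set G) := fun a ha => conj_mem_normalizer (hnorm a (hA' ha))
  have hle : W' ≤ wHyp ρ := by
    rw [Components.Hyperplane.eq_iSup_hyperplane F.A_elem (K := W') (by rw [F.card_A]; norm_num)
      (fun h => Nat.not_even_iff_odd.2 hodd (even_iff_two_dvd.2 h)) hAW]
    refine iSup_le fun H => le_iSup_of_le H fun x hx => mem_dlt.2 fun e he he1 => ?_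
    by_cases hez : e ∈ subZ ρ
    · exact F.cent_part_le hno hodd hAW H.2.1 he hez he1 hx
    · refine Loc.le_core (X := W' ⊓ centralizer ({e} : Set G)) inf_le_right
        (hodd.of_dvd_nat (card_dvd_of_le inf_le_left)) (fun c hc y hy => ⟨hnorm c (hcent' e ⟨H.2.1 he, hez⟩
          (mem_centralizer_singleton_iff.2 hc)) y hy.1, ?_⟩)
        ⟨hx.1, mem_centralizer_singleton_iff.2 (mem_centralizer_iff.1 hx.2 e he).symm⟩
      exact (centralizer ({e} : Set G)).mul_mem ((centralizer ({e} : Set G)).mul_mem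
        (mem_centralizer_singleton_iff.2 hc) hy.2)
        ((centralizer ({e} : Set G)).inv_mem (mem_centralizer_singleton_iff.2 hc))
  refine mem_normalizer_iff_map_conj_eq.2 (hW'eq.symm.trans
    (eq_of_le_of_card_ge hle ?_))
  rw [hW'eq, card_map_of_injective (MulAut.conj _).injective]

/-- The involutions of `C(z)` conjugate to `z` lie in `Q` times the core. -/
theorem z_class_mem {t : G} (htz : t * ρ 16 = ρ 16 * t) (hc : IsConj (ρ 16) t) :
    t ∈ (S : Subgroup G) ⊔ Loc.core (ρ 16) := by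
  classical
  haveI : Fact (Nat.Prime 2) := ⟨Nat.prime_two⟩
  set C := centralizer ({ρ 16} : Set G)
  have ht2 : orderOf t = 2 := by
    obtain ⟨g, rfl⟩ := isConj_iff.1 hc
    rw [Involutions.Basic.orderOf_conj, F.order_z]
  obtain ⟨k, hk, hkS⟩ := Loc.exists_conj_into (H := C) S.isPGroup' F.le_centralizer_z
    (fun P hP _ => by
      obtain ⟨g, hg⟩ := exists_conj_le S hP
      exact (card_map_of_injective (MulAut.conj g).injective (K := P)).ge.trans (card_le_of_le hg))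
    (Loc.isPGroup_zpowers (i := 1) (by rw [ht2]; norm_num)) (zpowers_le.2 (mem_centralizer_singleton_iff.2 htz))
  obtain ⟨c, hcs, hce⟩ := F.surj _ (hkS t (mem_zpowers t))
  have hcj : IsConj (ρ 16) (ρ c) := hc.trans (isConj_iff.2 ⟨k, hce.symm⟩)
  have hc2 : mul c c = 0 := (F.sq_one hcs).1 (by
    rw [hce, show k * t * k⁻¹ * (k * t * k⁻¹) = k * (t * t) * k⁻¹ by group, Involutions.Basic.inv_sq_one ht2,
      mul_one, mul_inv_cancel])
  have hcq : c ∈ qL := by
    rcases invs_ok c hcs hc2 with h | h | ⟨h, hz⟩ | ⟨h, hz⟩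
    · exact y_codes.2.2.2.1 c h
    · exact y_codes.2.2.2.2.1 c h
    · exact absurd hcj (F.out_not_conj hno (F.out_code h hz))
    · obtain ⟨h1, h2⟩ := y_codes.2.2.2.2.2 c h hz
      exact absurd (hcj.trans (F.conj_cj one_facts.1 hcs)) (F.out_not_conj hno (F.out_code h1 h2))
  obtain ⟨q, hq, hqe⟩ := F.hN'.conj_mem _ ⟨⟨ρ c, F.le_centralizer_z (F.mem c hcs)⟩,
    (show ρ c ∈ sub ρ qL from mem_sub_of_mem hcq), rfl⟩ (QuotientGroup.mk' _ (⟨k, hk⟩⁻¹ : C))
  rw [← map_inv, ← map_mul, ← map_mul, QuotientGroup.mk'_apply, QuotientGroup.mk'_apply, QuotientGroup.eq] at hqe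
  have hd : ((q⁻¹ * ((⟨k, hk⟩ : C)⁻¹ * ⟨ρ c, F.le_centralizer_z (F.mem c hcs)⟩ * (⟨k, hk⟩ : C)⁻¹⁻¹) : C) : G) ∈
      Loc.core (ρ 16) := ⟨_, hqe, rfl⟩
  have he : (q : G)⁻¹ * (k⁻¹ * ρ c * k⁻¹⁻¹) ∈ Loc.core (ρ 16) := hd
  rw [hce, show k⁻¹ * (k * t * k⁻¹) * k⁻¹⁻¹ = t by group] at he
  have hqS : (q : G) ∈ (S : Subgroup G) := by
    obtain ⟨a, ha, hae⟩ := F.mem_Q.1 (show (q : G) ∈ sub ρ qL from hq)
    exact hae ▸ F.mem a (qL_facts.1 a ha).1
  have := mul_mem (mem_sup_left (T := Loc.core (ρ 16)) hqS) (mem_sup_right (S := (S : Subgroup G)) he)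
  rwa [mul_inv_cancel_left] at this

/-- The join over the hyperplanes is trivial. -/
theorem wHyp_bot : wHyp ρ = ⊥ := by
  classical
  haveI : Fact (Nat.Prime 2) := ⟨Nat.prime_two⟩
  obtain ⟨hcent, hy⟩ := F.cent_and_y hno
  set M := normalizer (wHyp ρ : Set G)
  have hNA : normalizer (subA ρ : Set G) ≤ M := F.normalizer_le_wHyp
  have hSM : (S : Subgroup G) ≤ M := fun s hs => by
    obtain ⟨a, ha, rfl⟩ := F.surj s hs
    rcases y_codes.1 a ha with h | h
    · exact hNA (F.R_le_NA (mem_sub_of_mem h))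
    · have h1 := M.mul_mem (M.inv_mem hy) (hNA (F.R_le_NA (mem_sub_of_mem h)))
      rwa [F.mul_eq 1 one_facts.1 a ha, inv_mul_cancel_left] at h1
  have hOz : Loc.core (ρ 16) ≤ M := F.core_le_M hno (F.Z0_le_A F.z_mem_Z0)
  have h416 := F.out_416
  have hall : ∀ t : G, IsConj (ρ 16) t → t ∈ M := by
    intro t ht
    have ht2 : orderOf t = 2 := by
      obtain ⟨g, rfl⟩ := isConj_iff.1 ht
      rw [Involutions.Basic.orderOf_conj, F.order_z]
    have hv2 := F.out_order h416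
    obtain ⟨hc2, hct, hcv⟩ := Involutions.Basic.middle_involution ht2 hv2
      (Involutions.Basic.even_orderOf_mul_of_not_isConj ht2 hv2 fun h => hno (ht.trans h))
    set c := (t * ρ 416) ^ (orderOf (t * ρ 416) / 2)
    obtain ⟨k, hk, hkA⟩ := F.conj_into_A hno h416 (H := centralizer ({ρ 416} : Set G)) le_rfl (F.A_le_cent h416.1)
      (Loc.isPGroup_zpowers (i := 1) (by rw [hc2]; norm_num))
      (zpowers_le.2 (mem_centralizer_singleton_iff.2 hcv.eq))
    have hkM := hcent _ h416 hk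
    have ha := hkA c (mem_zpowers c)
    set a := k * c * k⁻¹
    have hta : k * t * k⁻¹ * a = a * (k * t * k⁻¹) := by
      rw [show k * t * k⁻¹ * a = k * (t * c) * k⁻¹ by simp only [a]; group, ← hct.eq]
      simp only [a]; group
    suffices k * t * k⁻¹ ∈ M by
      have := M.mul_mem (M.mul_mem (M.inv_mem hkM) this) hkM
      rwa [show k⁻¹ * (k * t * k⁻¹) * k = t by group] at this
    by_cases haz : a ∈ subZ ρ
    · obtain ⟨g, hg, hga⟩ := F.exists_to_z hno haz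
        (fun e => Involutions.Basic.ne_one hc2 (conj_eq_one_iff.1 e))
      have h1 := F.z_class_mem hno (t := g * (k * t * k⁻¹) * g⁻¹)
        (by rw [← hga, show g * (k * t * k⁻¹) * g⁻¹ * (g * a * g⁻¹) = g * (k * t * k⁻¹ * a) * g⁻¹ by group, hta]
            group)
        ((ht.trans (isConj_iff.2 ⟨k, rfl⟩)).trans (isConj_iff.2 ⟨g, rfl⟩))
      have h2 : g * (k * t * k⁻¹) * g⁻¹ ∈ M := (sup_le hSM hOz) h1
      have := M.mul_mem (M.mul_mem (M.inv_mem (hNA hg)) h2) (hNA hg)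
      rwa [show g⁻¹ * (g * (k * t * k⁻¹) * g⁻¹) * g = k * t * k⁻¹ by group] at this
    · exact hcent a ⟨ha, haz⟩ (mem_centralizer_singleton_iff.2 hta)
  have hncl : Subgroup.normalClosure ({ρ 16} : Set G) ≤ M := (closure_le _).2 fun t ht => by
    obtain ⟨a, ha, hat⟩ := Group.mem_conjugatesOfSet_iff.1 ht
    rw [Set.mem_singleton_iff.1 ha] at hat
    exact hall t hat
  have htop : M = ⊤ := by
    rcases IsSimpleGroup.eq_bot_or_eq_top_of_normal (Subgroup.normalClosure ({ρ 16} : Set G)) inferInstance with e | e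
    · exfalso
      have := Subgroup.subset_normalClosure (Set.mem_singleton (ρ 16))
      rw [e] at this
      exact Involutions.Basic.ne_one F.order_z this
    · exact top_le_iff.1 (e ▸ hncl)
  haveI : (wHyp ρ).Normal := normalizer_eq_top_iff.1 htop
  rcases IsSimpleGroup.eq_bot_or_eq_top_of_normal (wHyp ρ) inferInstance with e | e
  · exact e
  · exfalso
    have h := F.wHyp_odd hno
    rw [e, card_top] at h
    refine Nat.not_even_iff_odd.2 h (even_iff_two_dvd.2 ((dvd_trans ?_ (card_subgroup_dvd_card (S : Subgroup G)))))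
    rw [F.card_eq]
    norm_num

end Syl

end Cfsg.Agent.J2Type
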