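import Cfsg.Agent.Lib.J2Type.TwoClass.Fix
import Cfsg.Agent.Lib.J2Type.TwoClass.KleinCent
import Cfsg.Agent.Lib.J2Type.KleinFive
import Cfsg.Agent.Lib.J2Type.CoreW

/-!
Two classes of involutions: the centralizer of an element of `A` outside `⟨z, x⟩` modulo its core and the
four-group central modulo the core.
-/

set_option autoImplicit false
set_option linter.style.haveILetI false
set_option linter.unusedSectionVars false
set_option maxHeartbeats 1000000

namespace Cfsg.Agent.J2Type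

open Subgroup
open Cfsg.Agent.J2Uniq (mul inv cj)

universe u

variable {G : Type u} [Group G]

/-- A four-group containing `v`, central in `C(v)` modulo the core, with an element permuting `⟨z, x⟩`. -/
structure Central (ρ : ℕ → G) (v n : G) (D : Subgroup G) : Prop where
  nA : n ∈ normalizer (subA ρ : Set G)
  nB : n ∈ normalizer (subB ρ : Set G)
  nv : n * v = v * n
  n16 : n * ρ 16 * n⁻¹ = ρ 15
  n15 : n * ρ 15 * n⁻¹ = ρ 31
  le : D ≤ subA ρ
  mem : v ∈ D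
  nd : ∀ d ∈ D, n * d = d * n
  disj : ∀ d ∈ D, d ∈ subZ ρ → d = 1
  cover : ∀ a ∈ subA ρ, ∃ t ∈ subZ ρ, a * t ∈ D
  central : ∀ d ∈ D, ∀ g : G, g * v = v * g → d * g * d⁻¹ * g⁻¹ ∈ Loc.core v

/-- The odd elements of `C(v) ∩ C(t)` lie in the core of `C(v)` for all involutions `t` of `⟨z, x⟩`. -/
def Bal (ρ : ℕ → G) (v : G) : Prop :=
  ∀ t ∈ subZ ρ, t ≠ 1 → ∀ g : G, g * v = v * g → g * t = t * g → Odd (orderOf g) → g ∈ Loc.core v

/-- The quotient of the centralizer of `v`. -/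
structure QuotData (ρ : ℕ → G) (v n : G) (D : Subgroup G) {X : Type u} [Group X]
    (π : ↥(centralizer ({v} : Set G)) →* X) (T : Subgroup X) : Prop where
  surj : Function.Surjective π
  ker : ∀ c : ↥(centralizer ({v} : Set G)), π c = 1 ↔ (c : G) ∈ D ⊔ Loc.core v
  card : Nat.card T = 4
  sq : ∀ p ∈ T, p * p = 1
  noCore : Cfsg.oddCore X = ⊥
  mem : ∀ c : ↥(centralizer ({v} : Set G)), (c : G) ∈ subA ρ → π c ∈ T
  repr : ∀ p ∈ T, ∃ c : ↥(centralizer ({v} : Set G)), (c : G) ∈ subZ ρ ∧ π c = p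
  inj : ∀ c : ↥(centralizer ({v} : Set G)), (c : G) ∈ subZ ρ → π c = 1 → c = 1

namespace Syl

variable [Finite G] {S : Sylow 2 G} {ρ : ℕ → G} (F : Syl (S : Subgroup G) ρ) [IsSimpleGroup G]
  (hno : ¬ IsConj (ρ 16) (ρ 416))

include F hno

theorem exists_central {v : G} (hv : Out ρ v) : ∃ n D, Central ρ v n D := by
  obtain ⟨n, D, ⟨h1, h2, h3, h4, h5⟩, h6, h7, h8, h9, h10, h11⟩ := F.exists_D hno hv
  exact ⟨n, D, h1, h2, h3, h4, h5, h6, h7, h8, h9, h10, h11⟩

variable {v n : G} {D : Subgroup G} (hv : Out ρ v) (hD : Central ρ v n D)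

include hv hD

theorem D_out {d : G} (hd : d ∈ D) (h1 : d ≠ 1) : Out ρ d :=
  ⟨hD.le hd, fun h => h1 (hD.disj d hd h)⟩

theorem D_le_normalizer : D ≤ normalizer (Loc.core v : Set G) := fun _ hd =>
  Loc.core_normalizer (F.A_comm (hD.le hd) hv.1)

theorem D_inf_core {d : G} (hd : d ∈ D) (h : d ∈ Loc.core v) : d = 1 :=
  Loc.inf_eq_bot F.A_p (Loc.core_odd v) (hD.le hd) h

/-- An odd subgroup of `C(v)` normalized by `C(v) ∩ C(d)` lies in the core. -/
theorem le_core_v {d : G} (hd : d ∈ D) {X : Subgroup G} (hXv : X ≤ centralizer ({v} : Set G))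
    (hodd : Odd (Nat.card X)) (hinv : ∀ g : G, g * v = v * g → g * d = d * g → ∀ x ∈ X, g * x * g⁻¹ ∈ X) :
    X ≤ Loc.core v := by
  by_cases hd1 : d = 1
  · subst hd1
    exact Loc.le_core hXv hodd fun c hc x hx => hinv c hc (by simp) x hx
  set C := centralizer ({v} : Set G)
  set O := Loc.core v
  set Y := X ⊔ O
  have hXn : X ≤ normalizer (O : Set G) := fun x hx =>
    Loc.core_normalizer (mem_centralizer_singleton_iff.1 (hXv hx))
  have hYodd : Odd (Nat.card Y) := Loc.odd_sup hodd (Loc.core_odd v) hXn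
  refine le_sup_left.trans (Loc.le_core (X := Y) (sup_le hXv (Loc.core_le v)) hYodd ?_)
  intro c hc y hy
  have hcv : c * v = v * c := hc
  -- correct `c` by an element of the core
  have hdC : d * v = v * d := F.A_comm (hD.le hd) hv.1
  have hco : c * d * c⁻¹ * d⁻¹ ∈ O := by
    have h := O.inv_mem (hD.central d hd c hcv)
    rwa [show (d * c * d⁻¹ * c⁻¹)⁻¹ = c * d * c⁻¹ * d⁻¹ by group] at h
  have hd2 := F.A_order (hD.le hd) hd1
  have hodd' : Odd (orderOf (c * d * c⁻¹ * d)) := Loc.odd_orderOf (Loc.core_odd v) (by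
    rwa [F.A_inv (hD.le hd)] at hco)
  obtain ⟨o, ho, hoe⟩ := Involutions.Basic.exists_conj_of_odd
    (x := c * d * c⁻¹) (y := d) (by rw [Involutions.Basic.orderOf_conj, hd2]) hd2 hodd'
  have hoO : o ∈ O := zpowers_le.2 (by rwa [F.A_inv (hD.le hd)] at hco) ho
  have hc' : (o * c) * v = v * (o * c) := by
    rw [mul_assoc, hcv, ← mul_assoc, mem_centralizer_singleton_iff.1 (Loc.core_le v hoO), mul_assoc]
  have hcd : (o * c) * d = d * (o * c) := mul_inv_eq_iff_eq_mul.1 (by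
    rw [show o * c * d * (o * c)⁻¹ = o * (c * d * c⁻¹) * o⁻¹ by group, hoe])
  have hmap : ∀ w ∈ Y, (o * c) * w * (o * c)⁻¹ ∈ Y := by
    intro w hw
    have hle : Y ≤ Y.comap (MulAut.conj (o * c)).toMonoidHom := sup_le
      (fun x hx => mem_sup_left (hinv _ hc' hcd x hx))
      (fun x hx => mem_sup_right (Loc.core_conj_mem hc' hx))
    exact hle hw
  have := Y.mul_mem (Y.mul_mem (Y.inv_mem (mem_sup_right hoO)) (hmap y hy)) (mem_sup_right hoO)
  rwa [show o⁻¹ * (o * c * y * (o * c)⁻¹) * o = c * y * c⁻¹ by group] at this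

/-- The cores of the centralizers of the elements of `D` are balanced. -/
theorem core_inf_cent {d : G} (hd : d ∈ D) : Loc.core d ⊓ centralizer ({v} : Set G) ≤ Loc.core v :=
  F.le_core_v hno hv hD hd inf_le_right
    ((Loc.core_odd d).of_dvd_nat (card_dvd_of_le inf_le_left)) fun g hgv hgd x hx =>
      ⟨Loc.core_conj_mem hgd hx.1, (centralizer ({v} : Set G)).mul_mem
        ((centralizer ({v} : Set G)).mul_mem (mem_centralizer_singleton_iff.2 hgv) hx.2)
        ((centralizer ({v} : Set G)).inv_mem (mem_centralizer_singleton_iff.2 hgv))⟩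

theorem exists_quot : ∃ (X : Type u) (_ : Group X) (_ : Finite X) (π : ↥(centralizer ({v} : Set G)) →* X)
    (T : Sylow 2 X), QuotData ρ v n D π (T : Subgroup X) := by
  classical
  haveI : Fact (Nat.Prime 2) := ⟨Nat.prime_two⟩
  set C := centralizer ({v} : Set G) with hC
  set O := Loc.core v with hOdef
  have hOodd := Loc.core_odd v
  have hDC : D ≤ C := hD.le.trans (F.A_le_cent hv.1)
  have hDn := F.D_le_normalizer hno hv hD
  set N := (D ⊔ O).subgroupOf C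
  haveI hNn : N.Normal := ⟨fun w hw c => by
    obtain ⟨d, hd, o, ho, e⟩ := Loc.mem_sup_iff hDn hw
    have hcv := mem_centralizer_singleton_iff.1 c.2
    show (c : G) * (w : G) * (c : G)⁻¹ ∈ D ⊔ O
    have e' : d * o = (w : G) := e
    rw [← e', show (c : G) * (d * o) * (c : G)⁻¹ =
      (d * (c : G) * d⁻¹ * (c : G)⁻¹)⁻¹ * d * ((c : G) * o * (c : G)⁻¹) by group]
    exact (D ⊔ O).mul_mem ((D ⊔ O).mul_mem (mem_sup_right (O.inv_mem (hD.central d hd _ hcv))) (mem_sup_left hd))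
      (mem_sup_right (Loc.core_conj_mem hcv ho))⟩
  set π := QuotientGroup.mk' N with hπdef
  have hker : ∀ c : C, π c = 1 ↔ (c : G) ∈ D ⊔ O := fun c => QuotientGroup.eq_one_iff c
  obtain ⟨P, hP⟩ := (F.A_p.comap_subtype : IsPGroup 2 ((subA ρ).subgroupOf C)).exists_le_sylow
  have heq : subA ρ = (P : Subgroup C).map C.subtype := eq_of_le_of_card_ge
    (fun s hs => ⟨⟨s, F.A_le_cent hv.1 hs⟩, hP hs, rfl⟩)
    ((F.card_le_cent hno hv (P.isPGroup'.map _) (map_subtype_le _)).trans F.card_A.ge)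
  have hPA : ∀ q : C, q ∈ (P : Subgroup C) ↔ (q : G) ∈ subA ρ := fun q =>
    ⟨fun hq => heq ▸ ⟨q, hq, rfl⟩, fun hq => hP hq⟩
  let T := P.mapSurjective (f := π) (QuotientGroup.mk'_surjective _)
  have hTmem : ∀ c : C, (c : G) ∈ subA ρ → π c ∈ (T : Subgroup (C ⧸ N)) := fun c hc => ⟨c, (hPA c).2 hc, rfl⟩
  have hrepr : ∀ p ∈ (T : Subgroup (C ⧸ N)), ∃ c : C, (c : G) ∈ subZ ρ ∧ π c = p := by
    rintro _ ⟨q, hq, rfl⟩
    obtain ⟨t, ht, htD⟩ := hD.cover _ ((hPA q).1 hq)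
    refine ⟨⟨t, F.A_le_cent hv.1 (F.Z0_le_A ht)⟩, ht,
      (QuotientGroup.eq (s := N) (a := ⟨t, F.A_le_cent hv.1 (F.Z0_le_A ht)⟩) (b := q)).2 ?_⟩
    show t⁻¹ * (q : G) ∈ D ⊔ O
    rw [F.A_inv (F.Z0_le_A ht), F.A_comm (F.Z0_le_A ht) ((hPA q).1 hq)]
    exact mem_sup_left htD
  have hinj : ∀ c : C, (c : G) ∈ subZ ρ → π c = 1 → c = 1 := by
    intro c hc h1
    obtain ⟨d, hd, o, ho, e⟩ := Loc.mem_sup_iff hDn ((hker c).1 h1)
    have ho1 : o = 1 := Loc.inf_eq_bot F.A_p hOodd (x := o) (by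
      rw [show o = d⁻¹ * (c : G) by rw [← e, inv_mul_cancel_left]]
      exact (subA ρ).mul_mem ((subA ρ).inv_mem (hD.le hd)) (F.Z0_le_A hc)) ho
    rw [ho1, mul_one] at e
    exact Subtype.ext (e ▸ hD.disj d hd (e ▸ hc))
  have hcard : Nat.card (T : Subgroup (C ⧸ N)) = 4 := by
    let K := subZ ρ
    have hK : Nat.card K = 4 := by
      rw [show K = sub ρ zL from rfl, F.card_sub zL_facts.2.1.1 (fun a ha => (zL_facts.1 a ha).1)
        (fun a ha => (zL_facts.1 a ha).2.1.symm ▸ ha) (fun a ha => (zL_facts.1 a ha).2.2.2.2) (by decide +kernel)]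
      rfl
    rw [← hK]
    let φ : K → (T : Subgroup (C ⧸ N)) := fun t =>
      ⟨π ⟨t, F.A_le_cent hv.1 (F.Z0_le_A t.2)⟩, hTmem _ (F.Z0_le_A t.2)⟩
    refine (Nat.card_congr (Equiv.ofBijective φ ⟨fun a b e => ?_, fun p => ?_⟩)).symm
    · have e' : π ⟨a, F.A_le_cent hv.1 (F.Z0_le_A a.2)⟩ = π ⟨b, F.A_le_cent hv.1 (F.Z0_le_A b.2)⟩ :=
        congrArg Subtype.val e
      have := hinj ((⟨a, F.A_le_cent hv.1 (F.Z0_le_A a.2)⟩ : C)⁻¹ * ⟨b, F.A_le_cent hv.1 (F.Z0_le_A b.2)⟩)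
        ((subZ ρ).mul_mem ((subZ ρ).inv_mem a.2) b.2) (by rw [map_mul, map_inv, e', inv_mul_cancel])
      exact Subtype.ext (inv_mul_eq_one.1 (congrArg Subtype.val this))
    · obtain ⟨c, hc, hce⟩ := hrepr p p.2
      exact ⟨⟨c, hc⟩, Subtype.ext hce⟩
  have hsq : ∀ p ∈ (T : Subgroup (C ⧸ N)), p * p = 1 := by
    rintro _ ⟨q, hq, rfl⟩
    rw [← map_mul, show q * q = 1 from Subtype.ext (F.A_sq ((hPA q).1 hq)), map_one]
  -- no odd core
  have hO : Cfsg.oddCore (C ⧸ N) = ⊥ := by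
    haveI := Loc.oddCore_normal (C ⧸ N)
    set K := (Cfsg.oddCore (C ⧸ N)).comap π with hK
    have hKn : K.Normal := inferInstance
    have htwo : ∀ k ∈ K, ∀ i : ℕ, orderOf (k : G) ∣ 2 ^ i → π k = 1 := fun k hk i hi =>
      Loc.eq_one_of_two_odd (Loc.isPGroup_zpowers (i := i) ((orderOf_map_dvd π _).trans
        (by rwa [← Subgroup.orderOf_coe]))) (mem_zpowers _) (Loc.odd_orderOf InvChar.Core.odd_card_oddCore hk)
    have hDK : ∀ d (hd : d ∈ D), (⟨d, hDC hd⟩ : C) ∈ K := fun d hd => by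
      show π _ ∈ Cfsg.oddCore (C ⧸ N)
      rw [(hker _).2 (mem_sup_left hd)]
      exact one_mem _
    set D1 := (D.subgroupOf C).subgroupOf K
    have hD1 : IsPGroup 2 D1 := ((F.A_p.to_le hD.le).comap_subtype).comap_subtype
    obtain ⟨R, hR⟩ := hD1.exists_le_sylow
    have hRD : ∀ r : K, r ∈ (R : Subgroup K) → ((r : C) : G) ∈ D := by
      intro r hr
      obtain ⟨i, hi⟩ := IsPGroup.iff_orderOf.1 R.isPGroup' ⟨r, hr⟩
      rw [← Subgroup.orderOf_coe, ← Subgroup.orderOf_coe, ← Subgroup.orderOf_coe] at hi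
      obtain ⟨d, hd, o, ho, e⟩ := Loc.mem_sup_iff hDn ((hker r).1 (htwo r r.2 i (dvd_of_eq hi)))
      have hdR : (⟨⟨d, hDC hd⟩, hDK d hd⟩ : K) ∈ (R : Subgroup K) := hR hd
      have hoR : (⟨⟨d, hDC hd⟩, hDK d hd⟩ : K)⁻¹ * r ∈ (R : Subgroup K) := mul_mem (inv_mem hdR) hr
      obtain ⟨j, hj⟩ := IsPGroup.iff_orderOf.1 R.isPGroup' ⟨_, hoR⟩
      rw [← Subgroup.orderOf_coe, ← Subgroup.orderOf_coe, ← Subgroup.orderOf_coe] at hj
      have he : ((((⟨⟨d, hDC hd⟩, hDK d hd⟩ : K)⁻¹ * r : K) : C) : G) = o := by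
        show d⁻¹ * ((r : C) : G) = o
        rw [← e, inv_mul_cancel_left]
      rw [he] at hj
      have : o = 1 := Loc.eq_one_of_two_odd (Loc.isPGroup_zpowers (dvd_of_eq hj)) (mem_zpowers o)
        (Loc.odd_orderOf hOodd ho)
      rw [← e, this, mul_one]
      exact hd
    have hc := Transfer.NormalPComplement.hasNormalPComplement_of_normalizer_le_centralizer R fun m hm => by
      refine mem_centralizer_iff.2 fun p hp => Eq.symm ?_
      have hp' : m * p * m⁻¹ ∈ (R : Subgroup K) := (mem_normalizer_iff.1 hm p).1 hp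
      have hmv := mem_centralizer_singleton_iff.1 (m : C).2
      have hpD := hRD p hp
      have h1 := F.D_inf_core hno hv hD (D.mul_mem (hRD _ hp') (D.inv_mem hpD))
        (show ((m * p * m⁻¹ : K) : C).1 * (((p : C) : G))⁻¹ ∈ O by
          have h2 := O.inv_mem (hD.central _ hpD _ hmv)
          rw [show (((p : C) : G) * (m : C) * ((p : C) : G)⁻¹ * (((m : C) : G))⁻¹)⁻¹ =
            ((m : C) : G) * (p : C) * (((m : C) : G))⁻¹ * (((p : C) : G))⁻¹ by group] at h2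
          exact h2)
      refine Subtype.ext (Subtype.ext ?_)
      exact mul_inv_eq_iff_eq_mul.1 (mul_inv_eq_one.1 h1)
    set E := ((Cfsg.oddCore ↥K).map K.subtype).map C.subtype
    have hEmem : ∀ k : C, k ∈ K → Odd (orderOf k) → (k : G) ∈ E := fun k hk ho =>
      ⟨k, ⟨⟨k, hk⟩, Loc.mem_oddCore_of_complement hc (by rwa [← Subgroup.orderOf_coe]), rfl⟩, rfl⟩
    have hEodd : Odd (Nat.card E) := by
      rw [card_map_of_injective C.subtype_injective, card_map_of_injective K.subtype_injective]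
      exact InvChar.Core.odd_card_oddCore
    have hEO : E ≤ O := Loc.le_core (map_subtype_le _) hEodd fun c hc' e he => by
      obtain ⟨k, hk, rfl⟩ := he
      have hkK : k ∈ K := map_subtype_le _ hk
      refine hEmem (⟨c, mem_centralizer_singleton_iff.2 hc'⟩ * k * (⟨c, mem_centralizer_singleton_iff.2 hc'⟩)⁻¹)
        (hKn.conj_mem k hkK _) ?_
      rw [Involutions.Basic.orderOf_conj]
      obtain ⟨k', hk', rfl⟩ := hk
      rw [show orderOf (K.subtype k') = orderOf k' from Subgroup.orderOf_coe k']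
      exact Loc.odd_orderOf InvChar.Core.odd_card_oddCore hk'
    refine (Subgroup.eq_bot_iff_forall _).2 fun q hq => ?_
    obtain ⟨k, rfl⟩ := QuotientGroup.mk'_surjective N q
    have hkK : k ∈ K := hq
    obtain ⟨a, b, ha, hb, hab, ⟨i, hi⟩, hbo⟩ := Loc.exists_parts k
    have hz : zpowers k ≤ K := zpowers_le.2 hkK
    show π k = 1
    rw [← hab, map_mul, htwo a (hz ha) i (by rwa [Subgroup.orderOf_coe]),
      (hker b).2 (mem_sup_right (hEO (hEmem b (hz hb) hbo))), mul_one]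
  exact ⟨C ⧸ N, inferInstance, inferInstance, π, T,
    ⟨QuotientGroup.mk'_surjective _, hker, hcard, hsq, hO, hTmem, hrepr, hinj⟩⟩

variable {X : Type u} [Group X] [Finite X] {π : ↥(centralizer ({v} : Set G)) →* X} {T : Sylow 2 X}
  (hQ : QuotData ρ v n D π (T : Subgroup X))

include hQ

theorem quot_fus : ∃ r ∈ (zpowers (⟨n, mem_centralizer_singleton_iff.2 hD.nv⟩ :
      ↥(centralizer ({v} : Set G)))).map π,
    r ∈ normalizer ((T : Subgroup X) : Set X) ∧ ∃ p ∈ (T : Subgroup X), r * p * r⁻¹ ≠ p := by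
  set c : ↥(centralizer ({v} : Set G)) := ⟨n, mem_centralizer_singleton_iff.2 hD.nv⟩
  refine ⟨π c, ⟨c, mem_zpowers c, rfl⟩, mem_normalizer_of_maps fun p hp => ?_, ?_⟩
  · obtain ⟨t, ht, rfl⟩ := hQ.repr p hp
    rw [← map_inv, ← map_mul, ← map_mul]
    exact hQ.mem _ (F.Z0_le_A (F.norm_Z0 hno hD.nA ht))
  · set a : ↥(centralizer ({v} : Set G)) := ⟨ρ 16, F.A_le_cent hv.1 (F.Z0_le_A F.z_mem_Z0)⟩
    refine ⟨π a, hQ.mem a (F.Z0_le_A F.z_mem_Z0), fun e => ?_⟩
    rw [← map_inv, ← map_mul, ← map_mul, ← mul_inv_eq_one, ← map_inv, ← map_mul] at e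
    have := hQ.inj _ ((subZ ρ).mul_mem (F.norm_Z0 hno hD.nA F.z_mem_Z0) ((subZ ρ).inv_mem F.z_mem_Z0)) e
    have h1 : n * ρ 16 * n⁻¹ * (ρ 16)⁻¹ = 1 := congrArg Subtype.val this
    rw [hD.n16, mul_inv_eq_one] at h1
    exact F.x_ne_z h1

theorem quot_fus' : ∃ r ∈ normalizer ((T : Subgroup X) : Set X), ∃ p ∈ (T : Subgroup X), r * p * r⁻¹ ≠ p := by
  obtain ⟨r, -, hr⟩ := F.quot_fus hno hv hD hQ
  exact ⟨r, hr⟩

/-- An odd element in the kernel lies in the core. -/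
theorem ker_odd {c : ↥(centralizer ({v} : Set G))} (h : π c = 1) (ho : Odd (orderOf (c : G))) :
    (c : G) ∈ Loc.core v :=
  Loc.odd_mem_of_sup (F.A_p.to_le hD.le) (Loc.core_odd v) (F.D_le_normalizer hno hv hD) ((hQ.ker c).1 h) ho

/-- The centralizers in the quotient lift. -/
theorem lift_cent {c : ↥(centralizer ({v} : Set G))} {t : G} (ht : t ∈ subZ ρ) (ht1 : t ≠ 1)
    (h : π c * π ⟨t, F.A_le_cent hv.1 (F.Z0_le_A ht)⟩ = π ⟨t, F.A_le_cent hv.1 (F.Z0_le_A ht)⟩ * π c) :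
    ∃ o ∈ Loc.core v, (o * c) * t = t * (o * c) := by
  set t' : ↥(centralizer ({v} : Set G)) := ⟨t, F.A_le_cent hv.1 (F.Z0_le_A ht)⟩
  have hk : π (c * t' * c⁻¹ * t'⁻¹) = 1 := by
    rw [map_mul, map_mul, map_mul, map_inv, map_inv, h, mul_inv_cancel_right, mul_inv_cancel]
  obtain ⟨d, hd, o, ho, e⟩ := Loc.mem_sup_iff (F.D_le_normalizer hno hv hD) ((hQ.ker _).1 hk)
  have e' : d * o = (c : G) * t * (c : G)⁻¹ * t⁻¹ := e
  have htA := F.Z0_le_A ht
  have htO : t ∈ normalizer (Loc.core v : Set G) := Loc.core_normalizer (F.A_comm htA hv.1)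
  set u := (c : G) * t * (c : G)⁻¹
  have hu2 : orderOf u = 2 := by rw [Involutions.Basic.orderOf_conj]; exact F.A_order htA ht1
  have hu : u = d * t * (t⁻¹ * o * t) := by
    rw [show d * t * (t⁻¹ * o * t) = d * o * t by group, e']; group
  have ho' : t⁻¹ * o * t ∈ Loc.core v := by
    have := (mem_normalizer_iff.1 (inv_mem htO) o).1 ho
    rwa [inv_inv] at this
  have hdt : d * t ∈ subA ρ := mul_mem (hD.le hd) htA
  have hdt1 : d * t ≠ 1 := fun h1 => ht1 (by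
    have hd' : d = t := by rw [mul_eq_one_iff_eq_inv.1 h1, F.A_inv htA]
    exact hd' ▸ hD.disj d hd (hd' ▸ ht))
  have hodd : Odd (orderOf (d * t * u)) := Loc.odd_orderOf (Loc.core_odd v) (by
    rw [hu, ← mul_assoc, F.A_sq hdt, one_mul]; exact ho')
  obtain ⟨k, hk', hke⟩ := Involutions.Basic.exists_conj_of_odd (F.A_order hdt hdt1) hu2 hodd
  have hd1 : d = 1 := by
    have hz := F.mem_Z0_of_conj hno hdt (((F.conj_Z0 ht ht1).trans (isConj_iff.2 ⟨(c : G), rfl⟩)).trans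
      (isConj_iff.2 ⟨k, hke⟩).symm)
    exact hD.disj d hd (by simpa using (subZ ρ).mul_mem hz ((subZ ρ).inv_mem ht))
  subst hd1
  rw [one_mul] at hk' hke
  have hkO : k ∈ Loc.core v := zpowers_le.2 (by rw [hu, one_mul, ← mul_assoc, F.A_sq htA, one_mul]; exact ho') hk'
  refine ⟨k⁻¹, (Loc.core v).inv_mem hkO, mul_inv_eq_iff_eq_mul.1 ?_⟩
  rw [show k⁻¹ * (c : G) * t * (k⁻¹ * (c : G))⁻¹ = k⁻¹ * u * k by simp only [u]; group, ← hke]
  group

end Syl

end Cfsg.Agent.J2Type
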